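import Groth.Agent.Rigid.Smooth
import Mathlib.AlgebraicGeometry.Morphisms.Smooth
import Groth.Prelude.Def_Pic

/-!
# `O_T = (f_T)_* O_{X_T}` for proper smooth geometrically connected families with a section
-/

set_option autoImplicit false
set_option backward.isDefEq.respectTransparency false
set_option backward.isDefEq.respectTransparency.types false
set_option linter.style.haveILetI false

universe u

open CategoryTheory CategoryTheory.Limits AlgebraicGeometry TopologicalSpace

namespace Groth.Agent.LBDesc

theorem isIso_XTproj_app {X S : Scheme.{u}} (f : X ⟶ S) [IsProper f] [Smooth f] [GeometricallyConnected f]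
    (σ : S ⟶ X) (hσ : σ ≫ f = 𝟙 S) (T : Over S) (U : T.left.Opens) : IsIso ((PicF.XTproj f T).app U) := by
  let p := pullback.snd f T.hom
  haveI : IsProper p := inferInstance
  haveI : Smooth p := inferInstance
  haveI : GeometricallyConnected p := inferInstance
  let q := p ∣_ U
  have hq := (isPullback_morphismRestrict p U).flip
  haveI : IsProper q := MorphismProperty.of_isPullback hq ‹IsProper p›
  haveI : Smooth q := MorphismProperty.of_isPullback hq ‹Smooth p›
  haveI : GeometricallyConnected q := MorphismProperty.of_isPullback hq ‹GeometricallyConnected p›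
  haveI : LocallyOfFinitePresentation q := inferInstance
  haveI : Flat q := inferInstance
  let s : T.left ⟶ PicF.XT f T := PicF.secT f σ hσ T
  have hs : s ≫ p = 𝟙 T.left := pullback.lift_snd _ _ _
  let σ' : (U : Scheme.{u}) ⟶ (p ⁻¹ᵁ U : (PicF.XT f T).Opens) := (isPullback_morphismRestrict p U).lift (𝟙 _) (U.ι ≫ s)
    (by rw [Category.id_comp, Category.assoc, hs, Category.comp_id])
  have hσ' : σ' ≫ q = 𝟙 _ := IsPullback.lift_fst _ _ _ _
  have hb := Groth.Agent.Rigid.bijective_appTop_of_section q (Groth.Agent.Rigid.goodFibres_of_smooth q) σ' hσ'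
  haveI : IsIso q.appTop := (ConcreteCategory.isIso_iff_bijective _).2 hb
  have : IsIso (p.app (U.ι ''ᵁ ⊤)) := by
    have h := morphismRestrict_app p U ⊤
    haveI : IsIso ((p ∣_ U).app ⊤) := ‹IsIso q.appTop›
    rw [h] at this
    exact IsIso.of_isIso_comp_right _ ((PicF.XT f T).presheaf.map (eqToHom (image_morphismRestrict_preimage p U ⊤)).op)
  rwa [Scheme.Opens.ι_image_top] at this

end Groth.Agent.LBDesc
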