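import Groth.Agent.S12404
import Groth.Agent.AbPrim.Dual
import Groth.Agent.LBDesc.SectionApp

/-!
# Rigidified `Pic⁰` classes are determined by their image in the dual
-/

set_option autoImplicit false
set_option backward.isDefEq.respectTransparency false
set_option backward.isDefEq.respectTransparency.types false
set_option linter.style.haveILetI false

universe u

open CategoryTheory CategoryTheory.Limits AlgebraicGeometry
open PicF
open Groth.Agent.W7Cube (pull pull_pull)

namespace Groth.Agent.LBDesc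

attribute [local instance] W7Cube.law

variable {X S : Scheme.{u}} (f : X ⟶ S)

/-- pull back to a point of the base -/
theorem picZero_XTmap {T T' : Over S} (g : T' ⟶ T) {c : PicLoc.PicSet (XT f T)}
    (h : AbDual.IsPicZeroCl f T c.1) : AbDual.IsPicZeroCl f T' (pull (XTmap f g) c).1 := by
  obtain ⟨L, hc, hL, hLt⟩ := h
  obtain rfl : c = PicGrp.cls L hL := Subtype.ext hc.symm
  refine ⟨(Scheme.Modules.pullback (XTmap f g)).obj L, rfl, PicLoc.isInvertible_pullback _ hL, fun t Ω _ _ σ hσ => ?_⟩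
  have hw : (pullback.fst (XTproj f T') σ ≫ XTmap f g) ≫ XTproj f T = pullback.snd (XTproj f T') σ ≫ σ ≫ g.left := by
    rw [Category.assoc, show XTmap f g ≫ XTproj f T = XTproj f T' ≫ g.left from (PicFam.isPullback_XTmap f g).w,
      pullback.condition_assoc]
  let φ : pullback (XTproj f T') σ ⟶ pullback (XTproj f T) (σ ≫ g.left) :=
    pullback.lift (pullback.fst _ _ ≫ XTmap f g) (pullback.snd _ _) hw
  letI : (pullback (XTproj f T') σ).Over (Spec (CommRingCat.of Ω)) := ⟨pullback.snd _ _⟩
  have h := AbPrim.algEquiv_pullback (pullback.snd (XTproj f T) (σ ≫ g.left)) (pullback.snd (XTproj f T') σ)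
    φ (pullback.lift_snd _ _ _) (hLt (g.left.base t) Ω (σ ≫ g.left) (by
      rw [Scheme.Hom.comp_base, TopCat.coe_comp, Set.range_comp, hσ, Set.image_singleton]))
  refine AbPrim.algEquiv_iso ?_ h
  exact (Scheme.Modules.pullbackComp φ _).app L ≪≫ (Scheme.Modules.pullbackCongr (pullback.lift_fst _ _ _)).app L ≪≫
    ((Scheme.Modules.pullbackComp _ (XTmap f g)).app L).symm

variable (σ : S ⟶ X) (hσ : σ ≫ f = 𝟙 S)
  (ha : ∀ (T : Over S) (U : T.left.Opens), IsIso ((PicF.XTproj f T).app U))
  {P : Over S} {φ : ∀ T : Over S, PicF.Cl (PicF.XT f T) → (T ⟶ P)}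
  (hP : AbDual.IsRelPicZeroK Scheme.fppfPrecoverage f P φ)

include hσ ha hP in
theorem rig_ext {T : Over S} {c c' : PicLoc.PicSet (XT f T)} (hz : AbDual.IsPicZeroCl f T c.1)
    (hz' : AbDual.IsPicZeroCl f T c'.1) (hc : pull (secT f σ hσ T) c = 1) (hc' : pull (secT f σ hσ T) c' = 1)
    (h : φ T c.1 = φ T c'.1) : c = c' := by
  obtain ⟨R, hR, hRu⟩ := hP.locallyInjective T c.1 c'.1 hz hz' h
  obtain ⟨κ, U, v, hR', hv⟩ := S12404.exists_small_cover hR
  obtain ⟨_, _, _⟩ := S12404.sigma_props hR'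
  refine mul_inv_eq_one.1 (S12403.eq_one_of_pull_eq_one f σ hσ ha T (Sigma.desc v) _ ?_
    (by rw [map_mul, map_inv, hc, hc', inv_one, mul_one]))
  refine S12404.eq_one_of_summands f T v _ fun i => ?_
  rw [pull_pull, S12404.XTmap_comp, S12404.summand_comp, map_mul, map_inv, mul_inv_eq_one]
  exact Subtype.ext (hRu (v i) (hv i))

end Groth.Agent.LBDesc
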