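import Groth.Agent.LBDesc.Effective
import Groth.Agent.W7Hull.InvDual
import Groth.Agent.UfdExtend.Glue
import Groth.Agent.PicFam.Basic

/-!
# Modules on a disjoint union
-/

set_option autoImplicit false
set_option backward.isDefEq.respectTransparency false
set_option backward.isDefEq.respectTransparency.types false
set_option linter.style.haveILetI false
set_option maxHeartbeats 400000

universe u

open CategoryTheory CategoryTheory.Limits AlgebraicGeometry TopologicalSpace Opposite

noncomputable section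

namespace Groth.Agent.LBDesc

variable {Y : Scheme.{u}} {κ : Type u} {U : κ → Scheme.{u}} (j : ∀ i, U i ⟶ Y) [∀ i, IsOpenImmersion (j i)]

/-- sections of a product are determined by the projections -/
lemma pi_sections_ext (M : κ → Y.Modules) {V : Y.Opens} {s t : Γ(∏ᶜ M, V)}
    (h : ∀ i, (Pi.π M i).app V s = (Pi.π M i).app V t) : s = t := by
  haveI : HasProductsOfShape κ Ab.{u} := inferInstance
  haveI hev : PreservesLimitsOfShape (Discrete κ) ((evaluation (Opens Y)ᵒᵖ Ab.{u}).obj (op V)) := inferInstance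
  haveI : PreservesLimit (Discrete.functor M ⋙ Scheme.Modules.toPresheaf Y) ((evaluation (Opens Y)ᵒᵖ Ab.{u}).obj (op V)) :=
    hev.preservesLimit
  haveI : PreservesLimit (Discrete.functor M) (Scheme.Modules.toPresheaf Y ⋙ (evaluation _ _).obj (op V)) :=
    comp_preservesLimit (K := Discrete.functor M) (Scheme.Modules.toPresheaf Y) _
  have hl := isLimitOfPreserves (Scheme.Modules.toPresheaf Y ⋙ (evaluation _ _).obj (op V)) (limit.isLimit (Discrete.functor M))
  exact Concrete.isLimit_ext _ hl _ _ fun ⟨i⟩ => h i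

/-- the module with given restrictions -/
def piMod (L : ∀ i, (U i).Modules) : Y.Modules := ∏ᶜ fun i => (Scheme.Modules.pushforward (j i)).obj (L i)

theorem nonempty_restrict_piMod (hdisj : Pairwise fun a b => Disjoint (j a).opensRange (j b).opensRange)
    (L : ∀ i, (U i).Modules) (k : κ) :
    Nonempty ((Scheme.Modules.restrictFunctor (j k)).obj (piMod j L) ≅ L k) := by
  classical
  let M : κ → Y.Modules := fun i => (Scheme.Modules.pushforward (j i)).obj (L i)
  let s : M k ⟶ ∏ᶜ M := Pi.lift (Pi.single k (𝟙 (M k)))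
  have hz : ∀ i, i ≠ k → ∀ (W : (U k).Opens) (a : Γ(M i, (j k) ''ᵁ W)), a = 0 := by
    intro i hi W a
    have e : j i ⁻¹ᵁ (j k ''ᵁ W) = ⊥ := eq_bot_iff.2 fun x hx => by
      have h1 : (j i).base x ∈ (j k).opensRange := (j k).image_le_opensRange W hx
      exact ((hdisj hi).le_bot ⟨⟨x, rfl⟩, h1⟩).elim
    have := QC.section_eq_of_locally (M := L i) (s := (show Γ(L i, j i ⁻¹ᵁ (j k ''ᵁ W)) from a)) (t := 0)
      fun y hy => absurd hy (by rw [e]; exact fun h => h)
    exact this
  haveI : IsIso ((Scheme.Modules.restrictFunctor (j k)).map (Pi.π M k)) := by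
    rw [Scheme.Modules.Hom.isIso_iff_isIso_app]
    intro W
    rw [ConcreteCategory.isIso_iff_bijective]
    change Function.Bijective ((Pi.π M k).app (j k ''ᵁ W))
    refine ⟨fun a b hab => pi_sections_ext M fun i => ?_, fun a => ⟨s.app _ a, ?_⟩⟩
    · rcases eq_or_ne i k with rfl | hi
      · exact hab
      · exact (hz i hi W _).trans (hz i hi W _).symm
    · have h : s ≫ Pi.π M k = 𝟙 _ := by simp [s]
      exact congrArg (fun φ : M k ⟶ M k => φ.app _ a) h
  refine ⟨(asIso ((Scheme.Modules.restrictFunctor (j k)).map (Pi.π M k))) ≪≫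
    (Scheme.Modules.restrictFunctorAdjCounitIso (j k)).app (L k)⟩

/-- gluing invertible modules on a disjoint union -/
theorem exists_invertible_disjointUnion (hdisj : Pairwise fun a b => Disjoint (j a).opensRange (j b).opensRange)
    (hcov : ∀ y : Y, ∃ i x, (j i).base x = y) (L : ∀ i, (U i).Modules) (hL : ∀ i, PicF.IsInvertible (L i)) :
    ∃ M : Y.Modules, PicF.IsInvertible M ∧ ∀ i, Nonempty ((Scheme.Modules.pullback (j i)).obj M ≅ L i) := by
  refine ⟨piMod j L, InvGen.isInvertible fun y => ?_, fun i =>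
    ⟨((Scheme.Modules.restrictFunctorIsoPullback (j i)).app _).symm ≪≫ (nonempty_restrict_piMod j hdisj L i).some⟩⟩
  obtain ⟨i, x, rfl⟩ := hcov y
  obtain ⟨V, t, hxV, ht⟩ := TMul.exists_isGen (hL i) x
  have h : TMul.IsGen (X := U i) (N := (Scheme.Modules.restrictFunctor (j i)).obj (piMod j L))
      ((nonempty_restrict_piMod j hdisj L i).some.inv.app V t) := MeroLib.IsGen.map_iso _ ht
  have h' := SymAlg.isGen_of_isGen_restrict (j i) _ h
  exact ⟨j i ''ᵁ V, _, ⟨x, hxV, rfl⟩, h'⟩

/-- isomorphism of invertible modules can be tested on a disjoint union -/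
theorem trivial_of_disjointUnion (hdisj : Pairwise fun a b => Disjoint (j a).opensRange (j b).opensRange)
    (hcov : ∀ y : Y, ∃ i x, (j i).base x = y) (M : Y.Modules)
    (h : ∀ i, Nonempty ((Scheme.Modules.pullback (j i)).obj M ≅ Coh.structureModule (U i))) :
    Nonempty (M ≅ Coh.structureModule Y) := by
  obtain ⟨hg, hgg⟩ : ∃ v : ∀ i, Γ(M, (j i) ''ᵁ ⊤), ∀ i, TMul.IsGen (v i) := by
    choose v hv using fun i => W7Hull.exists_gen_of_iso
      ((Scheme.Modules.restrictFunctorIsoPullback (j i)).app M ≪≫ (h i).some)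
    exact ⟨v, fun i => SymAlg.isGen_of_isGen_restrict (j i) _ (hv i)⟩
  have hc : (⊤ : Y.Opens) ≤ iSup fun i => (j i) ''ᵁ ⊤ := fun y _ => by
    obtain ⟨i, x, rfl⟩ := hcov y
    exact Opens.mem_iSup.2 ⟨i, ⟨x, trivial, rfl⟩⟩
  obtain ⟨v, hv, -⟩ := TopCat.Sheaf.existsUnique_gluing' (⟨M.presheaf, M.isSheaf⟩ : TopCat.Sheaf Ab Y)
    (fun i => (j i) ''ᵁ ⊤) ⊤ (fun _ => homOfLE le_top) hc hg (fun a b => by
      rcases eq_or_ne a b with rfl | hab
      · rfl
      · refine QC.section_eq_of_locally fun y hy => absurd hy fun hy => ?_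
        exact ((hdisj hab).le_bot ⟨(j a).image_le_opensRange ⊤ hy.1, (j b).image_le_opensRange ⊤ hy.2⟩).elim)
  refine PicFam.nonempty_iso_of_gen (v := v) (UfdExtend.isGen_of_locally fun y _ => ?_)
  obtain ⟨i, x, rfl⟩ := hcov y
  exact ⟨(j i) ''ᵁ ⊤, le_top, ⟨x, trivial, rfl⟩, (show QC.res M le_top v = hg i from hv i) ▸ hgg i⟩

end Groth.Agent.LBDesc
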