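import Groth.Agent.LBDesc.Local

/-!
# Effective descent of invertible modules; normalisation along a section
-/

set_option autoImplicit false
set_option backward.isDefEq.respectTransparency false
set_option backward.isDefEq.respectTransparency.types false
set_option linter.style.haveILetI false
set_option maxHeartbeats 1000000

universe u

open CategoryTheory CategoryTheory.Limits AlgebraicGeometry TopologicalSpace Opposite
open Groth.Agent.QC (res resO res_res res_smul resO_resO res_self app_res)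
open ProjMor (ev ev_res ev_resO eta eta_res eta_smul res_eta_smul)
open TMul (IsGen)

noncomputable section

namespace Groth.Agent.LBDesc

variable {Y Y' Z : Scheme.{u}} {g : Y' ⟶ Y} {p₁ p₂ : Z ⟶ Y'} (hZ : IsPullback p₁ p₂ g g)
  {L' : Y'.Modules} (θ : (Scheme.Modules.pullback p₁).obj L' ≅ (Scheme.Modules.pullback p₂).obj L')
  {ι : Type u} {O : ι → Y'.Opens} {t : ∀ i, Γ(L', O i)} {th : ∀ α β, Γ(Z, p₁ ⁻¹ᵁ O α ⊓ p₂ ⁻¹ᵁ O β)}

include hZ in
/-- **effective descent of invertible modules** -/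
theorem exists_descended [Flat g] (hp : Pieces g) (hd : ∀ V : Y.Opens, EffectiveEpi (g ∣_ V))
    (hL' : PicF.IsInvertible L') (hO : ∀ x : Y', ∃ i, x ∈ O i)
    (ht : ∀ i, IsGen (t i)) (hth : IsTh θ O t th) (hcoc : Coc hZ th) :
    ∃ L : Y.Modules, PicF.IsInvertible L ∧ Nonempty ((Scheme.Modules.pullback g).obj L ≅ L') :=
  exists_desc hZ.w θ hZ hd fun y => exists_local_gen hZ θ hp hL' hO ht hth hcoc y

variable (hth : IsTh θ O t th) (ht : ∀ i, IsGen (t i)) (hO : ∀ x : Y', ∃ i, x ∈ O i)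

include hth ht in
/-- change of the second generator -/
theorem thp_right {T : Scheme.{u}} (x y : T ⟶ Y') (e : x ≫ g = y ≫ g) (V : T.Opens)
    (α β β' : ι) (hx : V ≤ x ⁻¹ᵁ O α) (hy : V ≤ y ⁻¹ᵁ O β) (hy' : V ≤ y ⁻¹ᵁ O β') (c : Γ(Y', O β' ⊓ O β))
    (hc : res L' inf_le_left (t β') = c • res L' inf_le_right (t β)) :
    thp hZ th x y e V α β' hx hy' * ev y (O β' ⊓ O β) V (by rw [Scheme.Hom.preimage_inf]; exact le_inf hy' hy) c =
      thp hZ th x y e V α β hx hy := by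
  let W : Z.Opens := p₁ ⁻¹ᵁ O α ⊓ p₂ ⁻¹ᵁ (O β' ⊓ O β)
  have hW1 : W ≤ p₁ ⁻¹ᵁ O α ⊓ p₂ ⁻¹ᵁ O β' := inf_le_inf le_rfl (p₂.preimage_mono inf_le_left)
  have hW2 : W ≤ p₁ ⁻¹ᵁ O α ⊓ p₂ ⁻¹ᵁ O β := inf_le_inf le_rfl (p₂.preimage_mono inf_le_right)
  have key : resO Z hW1 (th α β') * ev p₂ _ W inf_le_right c = resO Z hW2 (th α β) := by
    refine ((C1Cap.isGen_eta p₂ (ht β)).res (p₂.preimage_mono (inf_le_right : O β' ⊓ O β ≤ O β)) W inf_le_right).1 ?_
    have e1 := congrArg (res _ hW1) (hth α β')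
    have e2 := congrArg (res _ hW2) (hth α β)
    simp only [res_smul, res_res] at e1 e2
    change _ • res _ _ (res _ _ (eta p₂ L' (O β) (t β))) = _ • res _ _ (res _ _ (eta p₂ L' (O β) (t β)))
    rw [res_res, mul_smul, ← e2, e1]
    congr 1
    rw [← res_res _ (inf_le_right : W ≤ p₂ ⁻¹ᵁ (O β' ⊓ O β)) (p₂.preimage_mono (inf_le_left : O β' ⊓ O β ≤ O β')),
      ← res_res _ (inf_le_right : W ≤ p₂ ⁻¹ᵁ (O β' ⊓ O β)) (p₂.preimage_mono (inf_le_right : O β' ⊓ O β ≤ O β)),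
      eta_res p₂ L' (inf_le_left : O β' ⊓ O β ≤ O β'), eta_res p₂ L' (inf_le_right : O β' ⊓ O β ≤ O β), hc,
      eta_smul, res_smul]
    congr 1
  have hV : V ≤ hZ.lift x y e ⁻¹ᵁ W := by
    rw [Scheme.Hom.preimage_inf, ← Scheme.Hom.comp_preimage, ← Scheme.Hom.comp_preimage, IsPullback.lift_fst,
      IsPullback.lift_snd, Scheme.Hom.preimage_inf]
    exact le_inf hx (le_inf hy' hy)
  have e3 := congrArg (ev (hZ.lift x y e) W V hV) key
  rw [map_mul, ev_resO, ev_resO, ev_comp] at e3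
  refine Eq.trans (congrArg (_ * ·) ?_) e3
  exact ev_congr (IsPullback.lift_snd hZ x y e).symm _ _ _

/-- multiplication by a function -/
def smulMor (M : Z.Modules) (r : Γ(Z, ⊤)) : M ⟶ M :=
  ⟨PresheafOfModules.homMk
    { app := fun V => AddCommGrpCat.ofHom (AddMonoidHom.mk' (fun s : Γ(M, V.unop) => (resO Z (le_top : V.unop ≤ ⊤) r : Γ(Z, V.unop)) • s) (smul_add _))
      naturality := fun V W h => by
        ext (s : Γ(M, V.unop))
        change (resO Z (le_top : W.unop ≤ ⊤) r : Γ(Z, W.unop)) • res M (leOfHom h.unop) s = res M (leOfHom h.unop) ((resO Z (le_top : V.unop ≤ ⊤) r : Γ(Z, V.unop)) • s)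
        rw [res_smul, resO_resO] }
    fun V (a : Γ(Z, V.unop)) (s : Γ(M, V.unop)) => by
      change (resO Z (le_top : V.unop ≤ ⊤) r : Γ(Z, V.unop)) • a • s = a • (resO Z (le_top : V.unop ≤ ⊤) r : Γ(Z, V.unop)) • s
      rw [smul_smul, smul_smul, _root_.mul_comm]⟩

lemma smulMor_app (M : Z.Modules) (r : Γ(Z, ⊤)) (V : Z.Opens) (s : Γ(M, V)) :
    (smulMor M r).app V s = (resO Z (le_top : V ≤ ⊤) r : Γ(Z, V)) • s := rfl

lemma isIso_smulMor (M : Z.Modules) {r : Γ(Z, ⊤)} (hr : IsUnit r) : IsIso (smulMor M r) := by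
  rw [Scheme.Modules.Hom.isIso_iff_isIso_app]
  intro V
  rw [ConcreteCategory.isIso_iff_bijective]
  show Function.Bijective (fun s : Γ(M, V) => (resO Z (le_top : V ≤ ⊤) r : Γ(Z, V)) • s)
  exact (hr.map (resO Z (le_top : V ≤ ⊤))).smul_bijective

section Normalise

variable {T U : Scheme.{u}} {π : Y ⟶ T} {π' : Y' ⟶ U} {u : U ⟶ T} (hg : IsPullback g π' π u)
  {s : T ⟶ Y} (hs : s ≫ π = 𝟙 T)

/-- the section over the covering -/
def secU : U ⟶ Y' := hg.lift (u ≫ s) (𝟙 U) (by rw [Category.assoc, hs, Category.comp_id, Category.id_comp])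

lemma secU_g : secU hg hs ≫ g = u ≫ s := hg.lift_fst _ _ _

lemma secU_π : secU hg hs ≫ π' = 𝟙 U := hg.lift_snd _ _ _

variable (O) in
/-- a family of units normalised along the section -/
def RigData (r : ∀ α, Γ(U, secU hg hs ⁻¹ᵁ O α)) (t : ∀ i, Γ(L', O i)) : Prop :=
  (∀ α, IsUnit (r α)) ∧ ∀ α α' (c : Γ(Y', O α' ⊓ O α)), res L' inf_le_left (t α') = c • res L' inf_le_right (t α) →
    resO U (Scheme.Hom.preimage_mono _ inf_le_left) (r α') * ev (secU hg hs) _ _ le_rfl c =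
      resO U (Scheme.Hom.preimage_mono _ inf_le_right) (r α)

include ht in
theorem exists_rigData (v : Γ((Scheme.Modules.pullback (secU hg hs)).obj L', ⊤)) (hv : IsGen v) :
    ∃ r, RigData O hg hs r t := by
  let σ := secU hg hs
  choose r hr using fun α => (C1Cap.isGen_eta σ (ht α) (σ ⁻¹ᵁ O α) le_rfl).2 (res _ le_top v)
  simp only [res_self] at hr
  refine ⟨r, fun α => W7Hull.isUnit_coeff (C1Cap.isGen_eta σ (ht α)) (by rw [hr]; exact hv.res _), fun α α' c hc => ?_⟩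
  refine (C1Cap.isGen_eta σ (ht α) _ (σ.preimage_mono inf_le_right)).1 ?_
  change _ • res _ _ (eta σ L' (O α) (t α)) = _ • res _ _ (eta σ L' (O α) (t α))
  have e1 : res _ (σ.preimage_mono (inf_le_left : O α' ⊓ O α ≤ O α')) (eta σ L' (O α') (t α')) =
      ev σ _ _ le_rfl c • res _ (σ.preimage_mono (inf_le_right : O α' ⊓ O α ≤ O α)) (eta σ L' (O α) (t α)) := by
    rw [eta_res σ L' (inf_le_left : O α' ⊓ O α ≤ O α'), eta_res σ L' (inf_le_right : O α' ⊓ O α ≤ O α), hc,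
      eta_smul, ProjMor.ev, Scheme.Hom.app_eq_appLE]
  rw [mul_smul, ← e1, ← res_smul, ← res_smul, hr, hr, res_res, res_res]

variable {r : ∀ α, Γ(U, secU hg hs ⁻¹ᵁ O α)}

variable (r) in
/-- the normalising unit at a point of the covering -/
def rAt {W : Scheme.{u}} (a : W ⟶ U) (V : W.Opens) (α : ι) (h : V ≤ (a ≫ secU hg hs) ⁻¹ᵁ O α) : Γ(W, V) :=
  ev a (secU hg hs ⁻¹ᵁ O α) V h (r α)

lemma resO_rAt {W : Scheme.{u}} (a : W ⟶ U) {V V' : W.Opens} (i : V' ≤ V) (α : ι)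
    (h : V ≤ (a ≫ secU hg hs) ⁻¹ᵁ O α) :
    resO W i (rAt hg hs r a V α h) = rAt hg hs r a V' α (i.trans h) := ev_res _ _ _ _

lemma sec_eq {W : Scheme.{u}} (a a' : W ⟶ U) (e : a ≫ u = a' ≫ u) :
    (a ≫ secU hg hs) ≫ g = (a' ≫ secU hg hs) ≫ g := by
  rw [Category.assoc, Category.assoc, secU_g, ← Category.assoc, ← Category.assoc, e]

variable (th r) in
/-- the coordinates are normalised along the section -/
def Normal : Prop := ∀ {W : Scheme.{u}} (a a' : W ⟶ U) (e : a ≫ u = a' ≫ u) (V : W.Opens) (α β : ι)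
  (hx : V ≤ (a ≫ secU hg hs) ⁻¹ᵁ O α) (hy : V ≤ (a' ≫ secU hg hs) ⁻¹ᵁ O β),
  rAt hg hs r a V α hx * thp hZ th (a ≫ secU hg hs) (a' ≫ secU hg hs) (sec_eq hg hs a a' e) V α β hx hy =
    rAt hg hs r a' V β hy

include hth ht hO in
theorem exists_normalised (hr : RigData O hg hs r t) :
    ∃ (θ' : (Scheme.Modules.pullback p₁).obj L' ≅ (Scheme.Modules.pullback p₂).obj L') (th' : _),
      IsTh θ' O t th' ∧ Normal hZ th' hg hs r := by
  let σ := secU hg hs
  let a := pullback.fst u u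
  let a' := pullback.snd u u
  have haa : a ≫ u = a' ≫ u := pullback.condition
  let N : ι × ι → (pullback u u).Opens := fun ab => (a ≫ σ) ⁻¹ᵁ O ab.1 ⊓ (a' ≫ σ) ⁻¹ᵁ O ab.2
  have hN : ∀ z, ∃ ab, z ∈ N ab := fun z => by
    obtain ⟨α, hα⟩ := hO ((a ≫ σ).base z)
    obtain ⟨β, hβ⟩ := hO ((a' ≫ σ).base z)
    exact ⟨(α, β), hα, hβ⟩
  let num : ∀ (V : (pullback u u).Opens) (α β : ι), V ≤ (a ≫ σ) ⁻¹ᵁ O α → V ≤ (a' ≫ σ) ⁻¹ᵁ O β → Γ(pullback u u, V) :=
    fun V α β hx hy => rAt hg hs r a V α hx * thp hZ th (a ≫ σ) (a' ≫ σ) (sec_eq hg hs a a' haa) V α β hx hy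
  have hrel : ∀ {W : Scheme.{u}} (k : W ⟶ U) (V : W.Opens) (α α' : ι) (hx : V ≤ (k ≫ σ) ⁻¹ᵁ O α) (hx' : V ≤ (k ≫ σ) ⁻¹ᵁ O α')
      (c : Γ(Y', O α' ⊓ O α)), res L' inf_le_left (t α') = c • res L' inf_le_right (t α) →
      rAt hg hs r k V α' hx' * ev (k ≫ σ) (O α' ⊓ O α) V (by rw [Scheme.Hom.preimage_inf]; exact le_inf hx' hx) c =
        rAt hg hs r k V α hx := by
    intro W k V α α' hx hx' c hc
    have e := congrArg (ev k _ V (show V ≤ k ⁻¹ᵁ (σ ⁻¹ᵁ (O α' ⊓ O α)) from le_inf hx' hx)) (hr.2 α α' c hc)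
    rw [map_mul, ev_resO, ev_resO, ev_comp] at e
    exact e
  have key : ∀ (V : (pullback u u).Opens) (α β α' β' : ι) (hx : V ≤ (a ≫ σ) ⁻¹ᵁ O α) (hy : V ≤ (a' ≫ σ) ⁻¹ᵁ O β)
      (hx' : V ≤ (a ≫ σ) ⁻¹ᵁ O α') (hy' : V ≤ (a' ≫ σ) ⁻¹ᵁ O β'),
      num V α' β' hx' hy' * rAt hg hs r a' V β hy = num V α β hx hy * rAt hg hs r a' V β' hy' := by
    intro V α β α' β' hx hy hx' hy'
    obtain ⟨c, hc⟩ := (ht α (O α' ⊓ O α) inf_le_right).2 (res L' inf_le_left (t α'))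
    obtain ⟨d, hd⟩ := (ht β (O β' ⊓ O β) inf_le_right).2 (res L' inf_le_left (t β'))
    simp only [num]
    rw [← hrel a' V β β' hy hy' d hd.symm, ← hrel a V α α' hx hx' c hc.symm,
      thp_left hZ θ hth ht (a ≫ σ) (a' ≫ σ) _ V α α' β' hx hx' hy' c hc.symm,
      ← thp_right hZ θ hth ht (a ≫ σ) (a' ≫ σ) _ V α β β' hx hy hy' d hd.symm]
    ring
  have hrU : ∀ {W : Scheme.{u}} (k : W ⟶ U) (V : W.Opens) (α : ι) (h : V ≤ (k ≫ σ) ⁻¹ᵁ O α), IsUnit (rAt hg hs r k V α h) :=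
    fun k V α h => (hr.1 α).map _
  have hnumU : ∀ V α β hx hy, IsUnit (num V α β hx hy) := fun V α β hx hy =>
    (hrU a V α hx).mul (isUnit_thp hZ θ hth ht _ _ _ V α β hx hy)
  -- `w` satisfies `w * num = rAt a'`
  obtain ⟨w, hw, -⟩ := (pullback u u).sheaf.existsUnique_gluing' N ⊤ (fun _ => homOfLE le_top)
    (fun z _ => Opens.mem_iSup.2 (hN z))
    (fun ab => rAt hg hs r a' (N ab) ab.2 inf_le_right * ((hnumU (N ab) ab.1 ab.2 inf_le_left inf_le_right).unit⁻¹).val)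
    (fun ab ab' => by
      suffices h : ∀ (V : (pullback u u).Opens) (h1 : V ≤ N ab) (h2 : V ≤ N ab'),
          resO _ h1 (rAt hg hs r a' (N ab) ab.2 inf_le_right * ((hnumU (N ab) ab.1 ab.2 inf_le_left inf_le_right).unit⁻¹).val) =
          resO _ h2 (rAt hg hs r a' (N ab') ab'.2 inf_le_right * ((hnumU (N ab') ab'.1 ab'.2 inf_le_left inf_le_right).unit⁻¹).val) from
        h _ inf_le_left inf_le_right
      intro V h1 h2
      have r1 : ∀ (cd : ι × ι) (h : V ≤ N cd),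
          resO _ h ((hnumU (N cd) cd.1 cd.2 inf_le_left inf_le_right).unit⁻¹).val *
            num V cd.1 cd.2 (h.trans inf_le_left) (h.trans inf_le_right) = 1 := fun cd h => by
        rw [show num V cd.1 cd.2 (h.trans inf_le_left) (h.trans inf_le_right) =
          resO _ h (num (N cd) cd.1 cd.2 inf_le_left inf_le_right) by simp only [num, map_mul, resO_rAt, resO_thp],
          ← map_mul, IsUnit.val_inv_mul, map_one]
      refine ((hnumU V ab.1 ab.2 (h1.trans inf_le_left) (h1.trans inf_le_right)).mul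
        (hnumU V ab'.1 ab'.2 (h2.trans inf_le_left) (h2.trans inf_le_right))).mul_right_cancel ?_
      simp only [map_mul, resO_rAt]
      have k := key V ab.1 ab.2 ab'.1 ab'.2 (h1.trans inf_le_left) (h1.trans inf_le_right) (h2.trans inf_le_left)
        (h2.trans inf_le_right)
      linear_combination (rAt hg hs r a' V ab.2 (h1.trans inf_le_right) *
          num V ab'.1 ab'.2 (h2.trans inf_le_left) (h2.trans inf_le_right)) * r1 ab h1 -
        (rAt hg hs r a' V ab'.2 (h2.trans inf_le_right) *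
          num V ab.1 ab.2 (h1.trans inf_le_left) (h1.trans inf_le_right)) * r1 ab' h2 + k)
  have hwV : ∀ (V : (pullback u u).Opens) (α β : ι) (hx : V ≤ (a ≫ σ) ⁻¹ᵁ O α) (hy : V ≤ (a' ≫ σ) ⁻¹ᵁ O β),
      resO _ le_top w * num V α β hx hy = rAt hg hs r a' V β hy := by
    intro V α β hx hy
    have h1 : V ≤ N (α, β) := le_inf hx hy
    rw [← resO_resO h1 (le_top : N (α, β) ≤ ⊤) w, show resO _ (le_top : N (α, β) ≤ ⊤) w = _ from hw (α, β), map_mul,
      resO_rAt, show num V α β hx hy = resO _ h1 (num (N (α, β)) α β inf_le_left inf_le_right) by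
        simp only [num, map_mul, resO_rAt, resO_thp],
      _root_.mul_assoc, ← map_mul, IsUnit.val_inv_mul, map_one, _root_.mul_one]
  have hwu : IsUnit w := by
    refine (pullback u u).toRingedSpace.isUnit_of_isUnit_germ _ _ fun z hz => ?_
    obtain ⟨ab, hab⟩ := hN z
    have hu : IsUnit (resO _ (le_top : N ab ≤ ⊤) w) := by
      rw [show resO _ (le_top : N ab ≤ ⊤) w = _ from hw ab]
      exact (hrU a' _ ab.2 inf_le_right).mul (Units.isUnit _)
    have hu' := hu.map ((pullback u u).presheaf.germ (N ab) z hab).hom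
    rwa [show ((pullback u u).presheaf.germ (N ab) z hab) (resO _ le_top w) = (pullback u u).presheaf.germ ⊤ z hz w from
      TopCat.Presheaf.germ_res_apply _ _ _ _ _] at hu'
  have hcond : (p₁ ≫ π') ≫ u = (p₂ ≫ π') ≫ u := by
    rw [Category.assoc, Category.assoc, ← hg.w, ← Category.assoc, ← Category.assoc, hZ.w]
  let πZ : Z ⟶ pullback u u := pullback.lift (p₁ ≫ π') (p₂ ≫ π') hcond
  let lam : Γ(Z, ⊤) := πZ.appTop w
  haveI := isIso_smulMor ((Scheme.Modules.pullback p₂).obj L') (r := lam) (hwu.map _)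
  refine ⟨θ ≪≫ asIso (smulMor _ lam), fun α β => resO Z le_top lam * th α β, fun α β => ?_, ?_⟩
  · change res _ _ ((smulMor _ lam).app _ (θ.hom.app _ (eta p₁ L' (O α) (t α)))) = _
    rw [smulMor_app, res_smul, resO_resO, hth α β, mul_smul]
  · intro W b b' e V α β hx hy
    let k : W ⟶ pullback u u := pullback.lift b b' e
    have e0 := congrArg (ev k ((a ≫ σ) ⁻¹ᵁ O α ⊓ (a' ≫ σ) ⁻¹ᵁ O β) V (by
      rw [Scheme.Hom.preimage_inf, ← Scheme.Hom.comp_preimage, ← Scheme.Hom.comp_preimage, pullback.lift_fst_assoc,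
        pullback.lift_snd_assoc]
      exact le_inf hx hy)) (hwV _ α β inf_le_left inf_le_right)
    simp only [num, map_mul, ev_thp] at e0
    have er : ∀ (q : pullback u u ⟶ U) (b₀ : W ⟶ U) (hq : k ≫ q = b₀) (γ : ι) (P : (pullback u u).Opens)
        (h1 : P ≤ (q ≫ σ) ⁻¹ᵁ O γ) (hP : V ≤ k ⁻¹ᵁ P) (h2 : V ≤ (b₀ ≫ σ) ⁻¹ᵁ O γ),
        ev k P V hP (rAt hg hs r q P γ h1) = rAt hg hs r b₀ V γ h2 := fun q b₀ hq γ P h1 hP h2 =>
      (ev_comp k q h1 hP (r γ)).trans (ev_congr hq _ _ _)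
    rw [er a b (pullback.lift_fst _ _ _) α _ inf_le_left _ hx, er a' b' (pullback.lift_snd _ _ _) β _ inf_le_right _ hy,
      ev_resO] at e0
    rw [← e0]
    rw [mul_left_comm]
    refine congrArg (_ * ·) ?_
    rw [thp, map_mul, ev_resO]
    refine congrArg₂ (· * ·) ?_ ?_
    · have e1 : hZ.lift (b ≫ σ) (b' ≫ σ) (sec_eq hg hs b b' e) ≫ πZ = k := by
        refine pullback.hom_ext ?_ ?_
        · rw [Category.assoc, pullback.lift_fst, pullback.lift_fst, IsPullback.lift_fst_assoc, Category.assoc, secU_π,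
            Category.comp_id]
        · rw [Category.assoc, pullback.lift_snd, pullback.lift_snd, IsPullback.lift_snd_assoc, Category.assoc, secU_π,
            Category.comp_id]
      rw [show lam = ev πZ ⊤ ⊤ le_top w by simp [lam, ProjMor.ev, Scheme.Hom.appTop, Scheme.Hom.app_eq_appLE], ev_comp]
      exact ev_congr e1 _ _ _
    · show thp hZ th (b ≫ σ) (b' ≫ σ) (sec_eq hg hs b b' e) V α β hx hy = _
      exact thp_congr hZ th (pullback.lift_fst_assoc b b' e σ).symm (pullback.lift_snd_assoc b b' e σ).symm _ _ V α β _ _ _ _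

include hth ht hO in
/-- **normalised coordinates satisfy the cocycle condition** -/
theorem coc_of_normal [Flat u] (hr : RigData O hg hs r t) (hn : Normal hZ th hg hs r)
    (hsurj : ∀ {W : Scheme.{u}} (k : W ⟶ T) [Flat k], Function.Surjective (pullback.snd π k).appTop) : Coc hZ th := by
  intro W x y z hxy hyz V α β γ hx hy hz
  let σ := secU hg hs
  let W₀ := pullback (pullback.fst u u ≫ u) u
  let qa : W₀ ⟶ U := pullback.fst _ _ ≫ pullback.fst u u
  let qb : W₀ ⟶ U := pullback.fst _ _ ≫ pullback.snd u u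
  let qc : W₀ ⟶ U := pullback.snd _ _
  let k : W₀ ⟶ T := qa ≫ u
  have hka : k = qa ≫ u := rfl
  have hkb : k = qb ≫ u := by simp only [k, qa, qb, Category.assoc, pullback.condition]
  have hkc : k = qc ≫ u := by
    simp only [k, qa, qc, Category.assoc]
    exact pullback.condition
  let P := pullback π k
  have hπ : ∀ (w : W ⟶ Y'), w ≫ g = x ≫ g → (w ≫ π') ≫ u = (x ≫ π') ≫ u := fun w e => by
    simp only [Category.assoc, ← hg.w]
    rw [← Category.assoc, e, Category.assoc]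
  have hky : y ≫ g = x ≫ g := hxy.symm
  have hkz : z ≫ g = x ≫ g := (hxy.trans hyz).symm
  let til : ∀ (q : W₀ ⟶ U), k = q ≫ u → (P ⟶ Y') := fun q e =>
    hg.lift (pullback.fst π k) (pullback.snd π k ≫ q) (by rw [Category.assoc, ← e, pullback.condition])
  have htil : ∀ q e, til q e ≫ g = pullback.fst π k := fun q e => hg.lift_fst _ _ _
  let β₀ : W ⟶ W₀ := pullback.lift (pullback.lift (x ≫ π') (y ≫ π') (hπ y hky).symm) (z ≫ π') (by
    rw [pullback.lift_fst_assoc]; exact (hπ z hkz).symm)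
  have hβa : β₀ ≫ qa = x ≫ π' := by simp [β₀, qa]
  have hβb : β₀ ≫ qb = y ≫ π' := by simp [β₀, qb]
  have hβc : β₀ ≫ qc = z ≫ π' := by simp [β₀, qc]
  let ξ : W ⟶ P := pullback.lift (x ≫ g) β₀ (by
    rw [hka, ← Category.assoc β₀, hβa, Category.assoc, Category.assoc, hg.w])
  have hξ : ∀ w q e, w ≫ g = x ≫ g → β₀ ≫ q = w ≫ π' → ξ ≫ til q e = w := fun w q e hw hq => hg.hom_ext
    (by rw [Category.assoc, hg.lift_fst, pullback.lift_fst, hw])
    (by rw [Category.assoc, hg.lift_snd, pullback.lift_snd_assoc, hq])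
  let sP : W₀ ⟶ P := pullback.lift (k ≫ s) (𝟙 W₀) (by rw [Category.assoc, hs, Category.comp_id, Category.id_comp])
  have hsP : ∀ q e, sP ≫ til q e = q ≫ σ := fun q e => hg.hom_ext
    (by rw [Category.assoc, hg.lift_fst, pullback.lift_fst, Category.assoc q, secU_g, ← Category.assoc, ← e])
    (by rw [Category.assoc, hg.lift_snd, pullback.lift_snd_assoc, Category.id_comp, Category.assoc q, secU_π,
          Category.comp_id])
  let X₁ := til qa hka
  let X₂ := til qb hkb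
  let X₃ := til qc hkc
  have h12 : X₁ ≫ g = X₂ ≫ g := (htil qa hka).trans (htil qb hkb).symm
  have h23 : X₂ ≫ g = X₃ ≫ g := (htil qb hkb).trans (htil qc hkc).symm
  have h13 : X₁ ≫ g = X₃ ≫ g := (htil qa hka).trans (htil qc hkc).symm
  let N : ι × ι × ι → P.Opens := fun q => X₁ ⁻¹ᵁ O q.1 ⊓ X₂ ⁻¹ᵁ O q.2.1 ⊓ X₃ ⁻¹ᵁ O q.2.2
  have hN : ∀ p, ∃ q, p ∈ N q := fun p => by
    obtain ⟨a1, ha1⟩ := hO (X₁.base p)
    obtain ⟨a2, ha2⟩ := hO (X₂.base p)
    obtain ⟨a3, ha3⟩ := hO (X₃.base p)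
    exact ⟨(a1, a2, a3), ⟨ha1, ha2⟩, ha3⟩
  let n12 : ∀ (V : P.Opens) (q : ι × ι × ι), V ≤ N q → Γ(P, V) := fun V q h =>
    thp hZ th X₁ X₂ h12 V q.1 q.2.1 (h.trans (inf_le_left.trans inf_le_left)) (h.trans (inf_le_left.trans inf_le_right)) *
      thp hZ th X₂ X₃ h23 V q.2.1 q.2.2 (h.trans (inf_le_left.trans inf_le_right)) (h.trans inf_le_right)
  let n13 : ∀ (V : P.Opens) (q : ι × ι × ι), V ≤ N q → Γ(P, V) := fun V q h =>
    thp hZ th X₁ X₃ h13 V q.1 q.2.2 (h.trans (inf_le_left.trans inf_le_left)) (h.trans inf_le_right)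
  have h13u : ∀ V q h, IsUnit (n13 V q h) := fun V q h => isUnit_thp hZ θ hth ht _ _ _ _ _ _ _ _
  have key : ∀ (V : P.Opens) (q q' : ι × ι × ι) (h : V ≤ N q) (h' : V ≤ N q'),
      n12 V q' h' * n13 V q h = n12 V q h * n13 V q' h' := by
    rintro V ⟨α, β, γ⟩ ⟨α', β', γ'⟩ h h'
    obtain ⟨c, hc⟩ := (ht α (O α' ⊓ O α) inf_le_right).2 (res L' inf_le_left (t α'))
    obtain ⟨d, hd⟩ := (ht β (O β' ⊓ O β) inf_le_right).2 (res L' inf_le_left (t β'))
    obtain ⟨f, hf⟩ := (ht γ (O γ' ⊓ O γ) inf_le_right).2 (res L' inf_le_left (t γ'))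
    have x1 := h.trans (inf_le_left.trans inf_le_left)
    have x2 := h.trans (inf_le_left.trans inf_le_right)
    have x3 := h.trans inf_le_right
    have y1 := h'.trans (inf_le_left.trans inf_le_left)
    have y2 := h'.trans (inf_le_left.trans inf_le_right)
    have y3 := h'.trans inf_le_right
    simp only [n12, n13]
    rw [thp_left hZ θ hth ht X₁ X₂ h12 V α α' β' x1 y1 y2 c hc.symm,
      thp_left hZ θ hth ht X₁ X₃ h13 V α α' γ' x1 y1 y3 c hc.symm,
      ← thp_right hZ θ hth ht X₁ X₂ h12 V α β β' x1 x2 y2 d hd.symm,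
      thp_left hZ θ hth ht X₂ X₃ h23 V β β' γ' x2 y2 y3 d hd.symm,
      ← thp_right hZ θ hth ht X₂ X₃ h23 V β γ γ' x2 x3 y3 f hf.symm,
      ← thp_right hZ θ hth ht X₁ X₃ h13 V α γ γ' x1 x3 y3 f hf.symm]
    ring
  have hres : ∀ (q : ι × ι × ι) {V V' : P.Opens} (i : V' ≤ V) (h : V ≤ N q),
      resO _ i (n12 V q h) = n12 V' q (i.trans h) ∧ resO _ i (n13 V q h) = n13 V' q (i.trans h) := fun q V V' i h =>
    ⟨by simp only [n12, map_mul, resO_thp], by simp only [n13, resO_thp]⟩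
  obtain ⟨ρ, hρ, -⟩ := P.sheaf.existsUnique_gluing' N ⊤ (fun _ => homOfLE le_top) (fun p _ => Opens.mem_iSup.2 (hN p))
    (fun q => n12 (N q) q le_rfl * ((h13u (N q) q le_rfl).unit⁻¹).val)
    (fun q q' => by
      suffices h : ∀ (V : P.Opens) (h1 : V ≤ N q) (h2 : V ≤ N q'),
          resO _ h1 (n12 (N q) q le_rfl * ((h13u (N q) q le_rfl).unit⁻¹).val) =
          resO _ h2 (n12 (N q') q' le_rfl * ((h13u (N q') q' le_rfl).unit⁻¹).val) from h _ inf_le_left inf_le_right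
      intro V h1 h2
      have r1 : ∀ (p : ι × ι × ι) (h : V ≤ N p), resO _ h ((h13u (N p) p le_rfl).unit⁻¹).val * n13 V p h = 1 := fun p h => by
        rw [show n13 V p h = resO _ h (n13 (N p) p le_rfl) from ((hres p h le_rfl).2).symm, ← map_mul, IsUnit.val_inv_mul, map_one]
      refine ((h13u V q h1).mul (h13u V q' h2)).mul_right_cancel ?_
      rw [map_mul (resO P h1) (n12 (N q) q le_rfl), map_mul (resO P h2) (n12 (N q') q' le_rfl), (hres q h1 le_rfl).1, (hres q' h2 le_rfl).1]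
      have k := key V q q' h1 h2
      linear_combination (n12 V q h1 * n13 V q' h2) * r1 q h1 - (n12 V q' h2 * n13 V q h1) * r1 q' h2 - k)
  have hρV : ∀ (q : ι × ι × ι) (V : P.Opens) (h : V ≤ N q), resO _ le_top ρ * n13 V q h = n12 V q h := by
    intro q V h
    rw [← resO_resO h (le_top : N q ≤ ⊤) ρ, show resO _ (le_top : N q ≤ ⊤) ρ = _ from hρ q, map_mul, (hres q h le_rfl).1,
      show n13 V q h = resO _ h (n13 (N q) q le_rfl) from ((hres q h le_rfl).2).symm, _root_.mul_assoc, ← map_mul,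
      IsUnit.val_inv_mul, map_one, _root_.mul_one]
  obtain ⟨c, hc⟩ := hsurj k ρ
  have hρ1 : ev sP ⊤ ⊤ le_top ρ = 1 := by
    refine W₀.sheaf.eq_of_locally_eq' (fun q => sP ⁻¹ᵁ N q) ⊤ (fun _ => homOfLE le_top)
      (fun p _ => Opens.mem_iSup.2 (hN _)) _ _ fun q => ?_
    change resO _ le_top (ev sP ⊤ ⊤ le_top ρ) = resO _ le_top (1 : Γ(W₀, ⊤))
    rw [ev_res, map_one]
    have e0 := congrArg (ev sP (N q) (sP ⁻¹ᵁ N q) le_rfl) (hρV q (N q) le_rfl)
    simp only [n12, n13, map_mul, ev_thp, ev_resO] at e0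
    have hle : ∀ q' e (a : ι) (hh : sP ⁻¹ᵁ N q ≤ (sP ≫ til q' e) ⁻¹ᵁ O a), sP ⁻¹ᵁ N q ≤ (q' ≫ σ) ⁻¹ᵁ O a :=
      fun q' e a hh => by rwa [← hsP q' e]
    have l1 : sP ⁻¹ᵁ N q ≤ (sP ≫ X₁) ⁻¹ᵁ O q.1 := sP.preimage_mono (inf_le_left.trans inf_le_left)
    have l2 : sP ⁻¹ᵁ N q ≤ (sP ≫ X₂) ⁻¹ᵁ O q.2.1 := sP.preimage_mono (inf_le_left.trans inf_le_right)
    have l3 : sP ⁻¹ᵁ N q ≤ (sP ≫ X₃) ⁻¹ᵁ O q.2.2 := sP.preimage_mono inf_le_right
    have f1 := hle qa hka _ l1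
    have f2 := hle qb hkb _ l2
    have f3 := hle qc hkc _ l3
    have b12 : qa ≫ u = qb ≫ u := hka.symm.trans hkb
    have b23 : qb ≫ u = qc ≫ u := hkb.symm.trans hkc
    have b13 : qa ≫ u = qc ≫ u := b12.trans b23
    rw [thp_congr hZ th (hsP qa hka) (hsP qb hkb) _ (sec_eq hg hs _ _ b12) _ _ _ _ _ f1 f2,
      thp_congr hZ th (hsP qb hkb) (hsP qc hkc) _ (sec_eq hg hs _ _ b23) _ _ _ _ _ f2 f3,
      thp_congr hZ th (hsP qa hka) (hsP qc hkc) _ (sec_eq hg hs _ _ b13) _ _ _ _ _ f1 f3] at e0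
    refine ((hr.1 q.1).map (ev qa _ _ f1) |>.mul (isUnit_thp hZ θ hth ht _ _ (sec_eq hg hs _ _ b13) _ _ _ f1 f3)).mul_left_cancel ?_
    change rAt hg hs r qa _ q.1 f1 * _ * _ = rAt hg hs r qa _ q.1 f1 * _ * 1
    rw [_root_.mul_one, _root_.mul_assoc, _root_.mul_comm (thp hZ th _ _ _ _ _ _ _ _) (ev sP ⊤ _ _ ρ), e0,
      ← _root_.mul_assoc, hn _ _ b12 _ _ _ f1 f2, hn _ _ b23 _ _ _ f2 f3, hn _ _ b13 _ _ _ f1 f3]
  have hc1 : c = 1 := by
    rw [← hc] at hρ1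
    refine Eq.trans ?_ hρ1
    rw [show (pullback.snd π k).appTop c = ev (pullback.snd π k) ⊤ ⊤ le_top c by
      simp [ProjMor.ev, Scheme.Hom.appTop, Scheme.Hom.app_eq_appLE], ev_comp,
      ev_congr (show sP ≫ pullback.snd π k = 𝟙 W₀ from pullback.lift_snd _ _ _) _ (show (⊤ : W₀.Opens) ≤ (𝟙 W₀ : W₀ ⟶ W₀) ⁻¹ᵁ ⊤ from le_top)]
    simp [ProjMor.ev, Scheme.Hom.appLE]
  have hρ' : ρ = 1 := by rw [← hc, hc1, map_one]
  have hV : V ≤ ξ ⁻¹ᵁ N (α, β, γ) := by
    rw [Scheme.Hom.preimage_inf, Scheme.Hom.preimage_inf, ← Scheme.Hom.comp_preimage, ← Scheme.Hom.comp_preimage,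
      ← Scheme.Hom.comp_preimage, hξ x qa hka rfl hβa, hξ y qb hkb hky hβb, hξ z qc hkc hkz hβc]
    exact le_inf (le_inf hx hy) hz
  have e0 := congrArg (ev ξ (N (α, β, γ)) V hV) (hρV (α, β, γ) _ le_rfl)
  simp only [hρ', map_one, _root_.one_mul, n12, n13, map_mul, ev_thp] at e0
  rw [thp_congr hZ th (hξ x qa hka rfl hβa) (hξ y qb hkb hky hβb) _ hxy _ _ _ _ _ hx hy, thp_congr hZ th (hξ y qb hkb hky hβb) (hξ z qc hkc hkz hβc) _ hyz _ _ _ _ _ hy hz,
    thp_congr hZ th (hξ x qa hka rfl hβa) (hξ z qc hkc hkz hβc) _ (hxy.trans hyz) _ _ _ _ _ hx hz] at e0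
  exact e0.symm

end Normalise

end Groth.Agent.LBDesc
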