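import Mathlib.RingTheory.Flat.FaithfullyFlat.Algebra
import Mathlib.RingTheory.TensorProduct.Maps
import Mathlib.RingTheory.TensorProduct.IncludeLeftSubRight

/-!
# Faithfully flat descent of units: a one-cocycle of units is Zariski-locally a coboundary
-/

set_option autoImplicit false
universe u

open TensorProduct

noncomputable section

namespace Groth.Agent.LBDesc

variable {A B : Type u} [CommRing A] [CommRing B] [Algebra A B]

local notation "B2" => B ⊗[A] B
local notation "ιl" => (Algebra.TensorProduct.includeLeft : B →ₐ[A] B ⊗[A] B)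
local notation "ιr" => (Algebra.TensorProduct.includeRight : B →ₐ[A] B ⊗[A] B)

/-- the twisted difference -/
def tdiff (U : B ⊗[A] B) : B →ₗ[A] B ⊗[A] B :=
  (LinearMap.mulLeft A U) ∘ₗ (ιl).toLinearMap - (ιr).toLinearMap

lemma tdiff_eq_zero_iff (U : B ⊗[A] B) (b : B) : tdiff U b = 0 ↔ U * (b ⊗ₜ 1) = 1 ⊗ₜ b := by
  simp [tdiff, sub_eq_zero]

/-- elements of the twisted invariants generate the unit ideal -/
theorem span_ker_tdiff_eq_top [Module.Flat A B] (U z : B ⊗[A] B)
    (hd : LinearMap.mul' A B z = 1)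
    (hc : (tdiff U).rTensor B z = 0) :
    Ideal.span {b : B | U * (b ⊗ₜ 1) = 1 ⊗ₜ b} = ⊤ := by
  have hex : Function.Exact (LinearMap.ker (tdiff U)).subtype (tdiff U) := LinearMap.exact_subtype_ker_map _
  obtain ⟨w, rfl⟩ := (Module.Flat.rTensor_exact (M := B) hex z).1 hc
  suffices h : ∀ t, LinearMap.mul' A B ((LinearMap.ker (tdiff U)).subtype.rTensor B t) ∈
      Ideal.span {b : B | U * (b ⊗ₜ 1) = 1 ⊗ₜ b} from (Ideal.eq_top_iff_one _).2 (hd ▸ h w)
  intro t
  induction t using TensorProduct.induction_on with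
  | zero => simp
  | add a b ha hb => simp only [map_add]; exact Ideal.add_mem _ ha hb
  | tmul m c =>
    simp only [LinearMap.rTensor_tmul, Submodule.subtype_apply, LinearMap.mul'_apply]
    exact Ideal.mul_mem_right _ _ (Ideal.subset_span ((tdiff_eq_zero_iff U _).1 (LinearMap.mem_ker.1 m.2)))

variable [Module.FaithfullyFlat A B]

/-- **a unit cocycle is locally a coboundary** -/
theorem exists_coboundary
    (W : ∀ (R : Type u) [CommRing R] [Algebra A R] [Module.Flat A R], (B →ₐ[A] R) → (B →ₐ[A] R) → R)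
    (hnat : ∀ (R R' : Type u) [CommRing R] [Algebra A R] [Module.Flat A R] [CommRing R'] [Algebra A R']
      [Module.Flat A R'] (f : R →ₐ[A] R') (φ ψ : B →ₐ[A] R), f (W R φ ψ) = W R' (f.comp φ) (f.comp ψ))
    (hone : ∀ (R : Type u) [CommRing R] [Algebra A R] [Module.Flat A R] (φ : B →ₐ[A] R), W R φ φ = 1)
    (hcoc : ∀ (R : Type u) [CommRing R] [Algebra A R] [Module.Flat A R] (φ ψ χ : B →ₐ[A] R),
      W R φ ψ * W R ψ χ = W R φ χ)
    (p : PrimeSpectrum A) :
    ∃ f : A, f ∉ p.asIdeal ∧ ∃ m n : B, m * n = algebraMap A B f ∧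
      W (B ⊗[A] B) ιl ιr * (m ⊗ₜ 1) = 1 ⊗ₜ m := by
  let U := W (B ⊗[A] B) ιl ιr
  let V := W (B ⊗[A] B) ιr ιl
  let R3 := (B ⊗[A] B) ⊗[A] B
  let e1 : B →ₐ[A] R3 := (Algebra.TensorProduct.includeLeft : B ⊗[A] B →ₐ[A] R3).comp ιl
  let e2 : B →ₐ[A] R3 := (Algebra.TensorProduct.includeLeft : B ⊗[A] B →ₐ[A] R3).comp ιr
  let e3 : B →ₐ[A] R3 := Algebra.TensorProduct.includeRight
  have hmul : Algebra.TensorProduct.lmul' A (S := B) V = 1 := by
    rw [hnat, Algebra.TensorProduct.lmul'_comp_includeRight, Algebra.TensorProduct.lmul'_comp_includeLeft]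
    exact hone B _
  have key : ∀ (U z : B ⊗[A] B),
      (Algebra.TensorProduct.includeLeft : B ⊗[A] B →ₐ[A] R3) U *
        Algebra.TensorProduct.map ιl (AlgHom.id A B) z = Algebra.TensorProduct.map ιr (AlgHom.id A B) z →
      (tdiff U).rTensor B z = 0 := by
    intro U z h
    have e : ∀ t, (tdiff U).rTensor B t =
        (Algebra.TensorProduct.includeLeft : B ⊗[A] B →ₐ[A] R3) U * Algebra.TensorProduct.map ιl (AlgHom.id A B) t
          - Algebra.TensorProduct.map ιr (AlgHom.id A B) t := by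
      intro t
      induction t using TensorProduct.induction_on with
      | zero => simp
      | add a b ha hb => simp only [map_add, ha, hb]; ring
      | tmul b c => simp [tdiff, TensorProduct.sub_tmul]
    rw [e, sub_eq_zero]
    exact h
  have h13 : ∀ φ : B →ₐ[A] B ⊗[A] B, (Algebra.TensorProduct.map φ (AlgHom.id A B)).comp ιl =
      (Algebra.TensorProduct.includeLeft : B ⊗[A] B →ₐ[A] R3).comp φ := fun φ => by
    ext b; simp
  have h33 : ∀ φ : B →ₐ[A] B ⊗[A] B, (Algebra.TensorProduct.map φ (AlgHom.id A B)).comp ιr = e3 := fun φ => by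
    ext b; simp [R3, e3]
  have hU : (Algebra.TensorProduct.includeLeft : B ⊗[A] B →ₐ[A] R3) U = W R3 e1 e2 := hnat _ _ _ _ _
  have hzU : (tdiff U).rTensor B V = 0 := by
    refine key U V ?_
    rw [hU, hnat, hnat, h13, h13, h33, h33, _root_.mul_comm]
    exact hcoc R3 e3 e1 e2
  have hzV : (tdiff V).rTensor B U = 0 := by
    refine key V U ?_
    rw [hnat, hnat, hnat, h13, h13, h33, h33, _root_.mul_comm (W R3 _ _)]
    change W R3 e1 e3 * W R3 e2 e1 = W R3 e2 e3
    rw [_root_.mul_comm]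
    exact hcoc R3 e2 e1 e3
  have hmulU : Algebra.TensorProduct.lmul' A (S := B) U = 1 := by
    rw [hnat, Algebra.TensorProduct.lmul'_comp_includeRight, Algebra.TensorProduct.lmul'_comp_includeLeft]
    exact hone B _
  have hM := span_ker_tdiff_eq_top U V hmul hzU
  have hN := span_ker_tdiff_eq_top V U hmulU hzV
  have hUV : U * V = 1 := (hcoc _ ιl ιr ιl).trans (hone _ _)
  have hmn : ∀ m n : B, U * (m ⊗ₜ 1) = 1 ⊗ₜ m → V * (n ⊗ₜ 1) = 1 ⊗ₜ n → ∃ f : A, algebraMap A B f = m * n := by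
    intro m n hm hn
    have e : (m * n) ⊗ₜ[A] (1 : B) = (1 : B) ⊗ₜ[A] (m * n) := by
      have e' := congrArg₂ (· * ·) hm hn
      rw [mul_mul_mul_comm U, hUV] at e'
      simpa only [_root_.one_mul, Algebra.TensorProduct.tmul_mul_tmul, _root_.mul_one] using e'
    have h := Algebra.IsEffective.eqLocus_includeLeft_includeRight (.of_faithfullyFlat A B)
    exact h.le e
  by_contra hne
  refine p.isPrime.ne_top (Ideal.map_injective_of_faithfullyFlat (B := B) ?_)
  rw [Ideal.map_top]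
  refine top_unique ?_
  rw [← Ideal.top_mul (⊤ : Ideal B)]
  nth_rewrite 1 [← hM]
  nth_rewrite 1 [← hN]
  rw [Ideal.span_mul_span', Ideal.span_le]
  rintro _ ⟨m, hm, n, hn, rfl⟩
  obtain ⟨f, hf⟩ := hmn m n hm hn
  by_contra hmem
  refine hne ⟨f, fun hfp => hmem ?_, m, n, hf.symm, hm⟩
  show m * n ∈ _
  rw [← hf]
  exact Ideal.mem_map_of_mem _ hfp

end Groth.Agent.LBDesc
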