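import Groth.Agent.LBDesc.Base
import Groth.Agent.MeroLib.Special
import Groth.Agent.PicFam.Basic

/-!
# Applications of descent of triviality
-/

set_option autoImplicit false
set_option backward.isDefEq.respectTransparency false
set_option backward.isDefEq.respectTransparency.types false
set_option linter.style.haveILetI false
set_option maxHeartbeats 1000000

universe u

open CategoryTheory CategoryTheory.Limits AlgebraicGeometry TopologicalSpace Opposite
open Groth.Agent.QC (res app_res res_smul)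
open TMul (IsGen)
open ProjMor (eta eta_res eta_smul)

noncomputable section

namespace Groth.Agent.LBDesc

variable {X S S' : Scheme.{u}} (f : X ⟶ S)

/-- bijectivity on functions can be tested on small affine opens -/
theorem app_bijective_of_affine
    (h : ∀ y : S, ∃ U : S.Opens, y ∈ U ∧ ∀ V : S.Opens, IsAffineOpen V → V ≤ U → Function.Bijective (f.app V).hom)
    (W : S.Opens) : Function.Bijective (f.app W).hom := by
  let φ : Coh.structureModule S ⟶ (Scheme.Modules.pushforward f).obj (Coh.structureModule X) :=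
    SheafOfModules.unitToPushforwardObjUnit f.toRingCatSheafHom
  have small : ∀ (T : S.Opens) (y : S), y ∈ T →
      ∃ V : S.Opens, V ≤ T ∧ y ∈ V ∧ Function.Bijective (f.app V).hom := fun T y hy => by
    obtain ⟨U, hyU, hU⟩ := h y
    obtain ⟨V, hV, hyV, hVT⟩ := exists_isAffineOpen_mem_and_subset (X := S) (x := y) (U := T ⊓ U) ⟨hy, hyU⟩
    exact ⟨V, fun z hz => (hVT hz).1, hyV, hU V hV fun z hz => (hVT hz).2⟩
  haveI : Epi φ := InvGen.epi_of_locally φ fun U t y hy => by
    obtain ⟨V, hVU, hyV, hV⟩ := small U y hy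
    exact ⟨V, hVU, hyV, hV.2 _⟩
  haveI : Mono φ := (QC.mono_iff_app_injective _).2 fun W s t hst => QC.section_eq_of_locally fun y hy => by
    obtain ⟨V, hVW, hyV, hV⟩ := small W y hy
    refine ⟨V, hVW, hyV, hV.1 ?_⟩
    change φ.app V _ = φ.app V _
    rw [← app_res φ, ← app_res φ, hst]
  haveI := isIso_of_mono_of_epi φ
  exact ConcreteCategory.bijective_of_isIso (φ.app W)

/-- flat base change of functions -/
theorem affBij_of_bijective [QuasiCompact f] [QuasiSeparated f] (hf : ∀ U : S.Opens, Function.Bijective (f.app U)) :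
    AffBij f := by
  intro R t _
  refine app_bijective_of_affine (pullback.snd f t) (fun y => ?_) ⊤
  obtain ⟨_, ⟨V, hV, rfl⟩, hyV, -⟩ := S.isBasis_affineOpens.exists_subset_of_mem_open (Set.mem_univ (t y)) isOpen_univ
  refine ⟨t ⁻¹ᵁ V, hyV, fun U hU hle => ?_⟩
  let g := pullback.snd f t
  have sq : IsPullback (pullback.fst f t) g f t := IsPullback.of_hasPullback f t
  have h1 := (isIso_pushoutSection_iff sq (US := V) (UT := U) (UX := f ⁻¹ᵁ V) (UY := g ⁻¹ᵁ U) hle le_rfl
    (by
      refine (inf_eq_right.2 ?_).symm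
      rw [← Scheme.Hom.comp_preimage, pullback.condition, Scheme.Hom.comp_preimage]
      exact g.preimage_mono hle)).1
    (isIso_pushoutSection_of_isQuasiSeparated_of_flat_right sq hle le_rfl
      (by
        refine (inf_eq_right.2 ?_).symm
        rw [← Scheme.Hom.comp_preimage, pullback.condition, Scheme.Hom.comp_preimage]
        exact g.preimage_mono hle) hV
      hU (f.isCompact_preimage hV.isCompact) (f.isQuasiSeparated_preimage hV.isQuasiSeparated))
  have hiso : IsIso (f.appLE V (f ⁻¹ᵁ V) le_rfl) := by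
    rw [← Scheme.Hom.app_eq_appLE, ConcreteCategory.isIso_iff_bijective]
    exact hf V
  have hq := h1.isIso_inr_of_isIso hiso
  rw [← Scheme.Hom.app_eq_appLE, ConcreteCategory.isIso_iff_bijective] at hq
  exact hq

/-- **pullback is injective on classes when functions agree** -/
theorem nonempty_iso_of_pullback_trivial (hf : ∀ U : S.Opens, Function.Bijective (f.app U)) {L : S.Modules}
    (hL : PicF.IsInvertible L)
    (htriv : Nonempty ((Scheme.Modules.pullback f).obj L ≅ Coh.structureModule X)) :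
    Nonempty (L ≅ Coh.structureModule S) := by
  obtain ⟨i⟩ := htriv
  let η : L ⟶ (Scheme.Modules.pushforward f).obj ((Scheme.Modules.pullback f).obj L) :=
    (Scheme.Modules.pullbackPushforwardAdjunction f).unit.app L
  choose U e hxU he using fun x : S => TMul.exists_isGen hL x
  have hloc : ∀ (x : S) (V : S.Opens), V ≤ U x → Function.Bijective (η.app V) := fun x V hV => by
    refine (Function.Bijective.of_comp_iff (η.app V) (he x V hV)).1 ?_
    have hcomp : (η.app V) ∘ (fun c : Γ(S, V) => c • res L hV (e x)) =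
        fun c : Γ(S, V) => f.app V c • res _ (f.preimage_mono hV) (eta f L (U x) (e x)) := funext fun c => by
      rw [eta_res f L hV]
      exact eta_smul f L c _
    rw [hcomp]
    exact (C1Cap.isGen_eta f (he x) _ (f.preimage_mono hV)).comp (hf V)
  haveI : Epi η := InvGen.epi_of_locally η fun T s y hy =>
    ⟨T ⊓ U y, inf_le_left, ⟨hy, hxU y⟩, (hloc y _ inf_le_right).2 _⟩
  haveI : Mono η := (QC.mono_iff_app_injective _).2 fun W s t hst => QC.section_eq_of_locally fun y hy => by
    refine ⟨W ⊓ U y, inf_le_left, ⟨hy, hxU y⟩, (hloc y _ inf_le_right).1 ?_⟩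
    rw [← app_res η, ← app_res η, hst]
  haveI := isIso_of_mono_of_epi η
  let φ : Coh.structureModule S ⟶ (Scheme.Modules.pushforward f).obj (Coh.structureModule X) :=
    SheafOfModules.unitToPushforwardObjUnit f.toRingCatSheafHom
  haveI : IsIso φ := by
    rw [Scheme.Modules.Hom.isIso_iff_isIso_app]
    intro W
    rw [ConcreteCategory.isIso_iff_bijective]
    exact hf W
  exact ⟨asIso η ≪≫ (Scheme.Modules.pushforward f).mapIso i ≪≫ (asIso φ).symm⟩

/-- **descent along a flat quasi-compact covering of an invertible module from the base** -/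
theorem exists_eq_pullback_of_fpqc [QuasiCompact f] [IsSeparated f] (hf : ∀ U : S.Opens, Function.Bijective (f.app U))
    (g : S' ⟶ S) [Flat g] [Surjective g] [QuasiCompact g] {L : X.Modules} (hL : PicF.IsInvertible L)
    {N' : S'.Modules} (hN' : PicF.IsInvertible N')
    (i : (Scheme.Modules.pullback (pullback.fst f g)).obj L ≅ (Scheme.Modules.pullback (pullback.snd f g)).obj N') :
    ∃ N : S.Modules, PicF.IsInvertible N ∧ Nonempty (L ≅ (Scheme.Modules.pullback f).obj N) := by
  choose U e hxU he using fun x : S' => TMul.exists_isGen hN' x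
  let P : Scheme.{u} := ∐ fun x : S' => (U x : Scheme.{u})
  let u : P ⟶ S' := Sigma.desc fun x => (U x).ι
  let ιx : ∀ x : S', (U x : Scheme.{u}) ⟶ P := Sigma.ι (fun x : S' => (U x : Scheme.{u}))
  have hιu : ∀ x, ιx x ≫ u = (U x).ι := fun x => by simp [ιx, u]
  haveI : Flat u := IsZariskiLocalAtSource.sigmaDesc (fun x => inferInstance)
  have hp : Pieces (u ≫ g) := by
    intro V hV
    have key : ∀ x : (g ⁻¹ᵁ V : Set S'), ∃ W : P.Opens, IsAffineOpen W ∧ ∃ O : S'.Opens, x.1 ∈ O ∧ W ≤ (u ≫ g) ⁻¹ᵁ V ∧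
        ∀ y ∈ O, ∃ z ∈ W, u.base z = y := fun x => by
      obtain ⟨O, hO, hxO, hOle⟩ := exists_isAffineOpen_mem_and_subset (X := S') (x := x.1) (U := g ⁻¹ᵁ V ⊓ U x.1)
        ⟨x.2, hxU _⟩
      refine ⟨ιx x.1 ''ᵁ ((U x.1).ι ⁻¹ᵁ O), (hO.preimage_of_isOpenImmersion _ (by
        rw [Scheme.Opens.opensRange_ι]; exact fun y hy => (hOle hy).2)).image_of_isOpenImmersion _, O, hxO, ?_, ?_⟩
      · rintro _ ⟨z, hz, rfl⟩
        have e1 : (u ≫ g).base (ιx x.1 z) = g.base ((U x.1).ι z) :=
          congrArg g.base (congrArg (fun t => t.base z) (hιu x.1))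
        change (u ≫ g).base (ιx x.1 z) ∈ V
        rw [e1]
        exact (hOle hz).1
      · intro y hy
        exact ⟨ιx x.1 ⟨y, (hOle hy).2⟩, ⟨⟨y, (hOle hy).2⟩, hy, rfl⟩, congrArg (fun t => t.base ⟨y, (hOle hy).2⟩) (hιu x.1)⟩
    choose W hW O hxO hWV hWO using key
    obtain ⟨T, hT⟩ := (g.isCompact_preimage hV.isCompact).elim_finite_subcover (fun x => (O x : Set S'))
      (fun x => (O x).isOpen) (fun x hx => Set.mem_iUnion.2 ⟨⟨x, hx⟩, hxO ⟨x, hx⟩⟩)
    refine ⟨T, inferInstance, fun k => W k.1, fun k => hW k.1, fun k => hWV k.1, fun y hy => ?_⟩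
    obtain ⟨x, rfl⟩ := g.surjective y
    obtain ⟨k, hkT, hx⟩ := Set.mem_iUnion₂.1 (hT hy)
    obtain ⟨z, hz, hzx⟩ := hWO k x hx
    exact ⟨⟨k, hkT⟩, z, hz, congrArg g.base hzx⟩
  obtain ⟨v, hv⟩ : ∃ v : Γ((Scheme.Modules.pullback u).obj N', ⊤), IsGen v := by
    have hop : ∀ x, (ιx x).opensRange ≤ u ⁻¹ᵁ U x := fun x => by
      rintro _ ⟨z, rfl⟩
      change u.base (ιx x z) ∈ U x
      rw [show u.base (ιx x z) = (U x).ι z from congrArg (fun t => t.base z) (hιu x)]
      exact z.2
    obtain ⟨v, hv⟩ := MeroLib.exists_gen_of_disjoint (fun x => (ιx x).opensRange)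
      (fun x => res _ (hop x) (eta u N' (U x) (e x))) (fun x => (C1Cap.isGen_eta u (he x)).res _)
      (fun a b z ha hb => by
        by_contra hne
        exact (disjoint_opensRange_sigmaι (fun x : S' => (U x : Scheme.{u})) a b hne).le_bot ⟨ha, hb⟩)
    have htop : (⨆ x, (ιx x).opensRange) = ⊤ := top_unique fun z _ => by
      obtain ⟨k, z', hz'⟩ := (sigmaOpenCover fun x : S' => (U x : Scheme.{u})).exists_eq z
      exact Opens.mem_iSup.2 ⟨k, z', hz'⟩
    exact ⟨_, hv.res htop.ge⟩
  obtain ⟨j⟩ := PicFam.nonempty_iso_of_gen hv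
  let k : pullback f (u ≫ g) ⟶ pullback f g := pullback.map f (u ≫ g) f g (𝟙 X) u (𝟙 S) (by simp) (by simp)
  have hk1 : k ≫ pullback.fst f g = pullback.fst f (u ≫ g) := by simp [k]
  have hk2 : k ≫ pullback.snd f g = pullback.snd f (u ≫ g) ≫ u := by simp [k]
  refine exists_eq_pullback f hf (affBij_of_bijective f hf) (u ≫ g) hp hL
    ⟨(Scheme.Modules.pullbackCongr hk1.symm).app L ≪≫ ((Scheme.Modules.pullbackComp k _).app L).symm ≪≫
      (Scheme.Modules.pullback k).mapIso i ≪≫ (Scheme.Modules.pullbackComp k _).app N' ≪≫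
      (Scheme.Modules.pullbackCongr hk2).app N' ≪≫ ((Scheme.Modules.pullbackComp _ u).app N').symm ≪≫
      (Scheme.Modules.pullback _).mapIso j ≪≫ PicLoc.pullbackStructureIso _⟩

end Groth.Agent.LBDesc
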