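import Groth.Agent.LBDesc.App
import Groth.Agent.S19022
import Mathlib

/-!
Descent of triviality for schemes with semilocal rings of global functions.
-/

set_option autoImplicit false
set_option backward.isDefEq.respectTransparency false
set_option backward.isDefEq.respectTransparency.types false
set_option linter.style.haveILetI false

universe u

open CategoryTheory CategoryTheory.Limits AlgebraicGeometry TopologicalSpace Opposite
open Groth.Agent.QC (res app_res res_smul)

noncomputable section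

namespace Groth.Agent.LBDesc

variable {X S S' : Scheme.{u}}

theorem app_bijective_toSpecΓ [CompactSpace X] [QuasiSeparatedSpace X] (W : (Spec Γ(X, ⊤)).Opens) :
    Function.Bijective (X.toSpecΓ.app W).hom := by
  let f := X.toSpecΓ
  let φ : Coh.structureModule (Spec Γ(X, ⊤)) ⟶ (Scheme.Modules.pushforward f).obj (Coh.structureModule X) :=
    SheafOfModules.unitToPushforwardObjUnit f.toRingCatSheafHom
  have small : ∀ (T : (Spec Γ(X, ⊤)).Opens) (y : Spec Γ(X, ⊤)), y ∈ T →
      ∃ V : (Spec Γ(X, ⊤)).Opens, V ≤ T ∧ y ∈ V ∧ Function.Bijective (f.app V).hom := fun T y hy => by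
    obtain ⟨_, ⟨r, rfl⟩, hy', hle⟩ := Opens.isBasis_iff_nbhd.mp PrimeSpectrum.isBasis_basic_opens hy
    exact ⟨PrimeSpectrum.basicOpen r, hle, hy', ConcreteCategory.bijective_of_isIso (f.app (PrimeSpectrum.basicOpen r))⟩
  haveI : Epi φ := InvGen.epi_of_locally φ fun U t y hy => by
    obtain ⟨V, hVU, hyV, hV⟩ := small U y hy
    exact ⟨V, hVU, hyV, hV.2 _⟩
  haveI : Mono φ := (QC.mono_iff_app_injective _).2 fun W s t hst => QC.section_eq_of_locally fun y hy => by
    obtain ⟨V, hVW, hyV, hV⟩ := small W y hy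
    refine ⟨V, hVW, hyV, hV.1 ?_⟩
    change φ.app V _ = φ.app V _
    rw [← app_res φ, ← app_res φ, hst]
  haveI := isIso_of_mono_of_epi φ
  exact ConcreteCategory.bijective_of_isIso (φ.app W)

theorem pieces_of_quasiCompact (g : S' ⟶ S) [Surjective g] [QuasiCompact g] : Pieces g := by
  intro V hV
  have key : ∀ x : (g ⁻¹ᵁ V : Set S'), ∃ W : S'.Opens, IsAffineOpen W ∧ x.1 ∈ W ∧ W ≤ g ⁻¹ᵁ V := fun x => by
    obtain ⟨O, hO, hxO, hle⟩ := exists_isAffineOpen_mem_and_subset (X := S') (x := x.1) (U := g ⁻¹ᵁ V) x.2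
    exact ⟨O, hO, hxO, hle⟩
  choose W hW hxW hWV using key
  obtain ⟨T, hT⟩ := (g.isCompact_preimage hV.isCompact).elim_finite_subcover (fun x => (W x : Set S'))
    (fun x => (W x).isOpen) (fun x hx => Set.mem_iUnion.2 ⟨⟨x, hx⟩, hxW ⟨x, hx⟩⟩)
  refine ⟨T, inferInstance, fun k => W k.1, fun k => hW k.1, fun k => hWV k.1, fun y hy => ?_⟩
  obtain ⟨x, rfl⟩ := g.surjective y
  obtain ⟨k, hkT, hx⟩ := Set.mem_iUnion₂.1 (hT hy)
  exact ⟨⟨k, hkT⟩, x, hx, rfl⟩

theorem nonempty_trivial_of_semilocal (R : CommRingCat.{u}) [Finite (MaximalSpectrum R)]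
    {N : (Spec R).Modules} (hN : PicF.IsInvertible N) : Nonempty (N ≅ Coh.structureModule (Spec R)) := by
  classical
  haveI := Fintype.ofFinite (MaximalSpectrum R)
  let c : MaximalSpectrum R → Spec R := fun m => ⟨m.asIdeal, m.isMaximal.isPrime⟩
  obtain ⟨U, -, hTU, ⟨i⟩⟩ := S19022.result (Spec R) N hN (Finset.univ.image c) (fun x hx => by
    obtain ⟨m, -, rfl⟩ := Finset.mem_image.1 hx
    exact (PrimeSpectrum.isClosed_singleton_iff_isMaximal _).2 m.isMaximal)
    ⟨⊤, isAffineOpen_top _, fun _ _ => trivial⟩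
  obtain rfl : U = ⊤ := by
    refine top_unique fun x _ => ?_
    obtain ⟨m, hm, hle⟩ := Ideal.exists_le_maximal x.asIdeal x.isPrime.ne_top
    exact ((PrimeSpectrum.le_iff_specializes x (c ⟨m, hm⟩)).1 hle).mem_open U.isOpen
      (hTU _ (Finset.mem_image_of_mem c (Finset.mem_univ _)))
  let e := (Spec R).topIso
  let i' := ((Scheme.Modules.restrictFunctorIsoPullback (⊤ : (Spec R).Opens).ι).app N).symm ≪≫ i
  exact ⟨((Scheme.Modules.pullbackId (Spec R)).app N).symm ≪≫
    ((Scheme.Modules.pullbackCongr e.inv_hom_id.symm).app N) ≪≫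
    ((Scheme.Modules.pullbackComp e.inv e.hom).app N).symm ≪≫
    (Scheme.Modules.pullback e.inv).mapIso i' ≪≫ PicLoc.pullbackStructureIso e.inv⟩

/-- An invertible module on a qcqs scheme with semilocal ring of functions which becomes trivial after a
faithfully flat extension of the base is trivial. -/
theorem nonempty_trivial_of_faithfullyFlat [CompactSpace X] [QuasiSeparatedSpace X]
    [Finite (MaximalSpectrum Γ(X, ⊤))] (f : X ⟶ S) [IsAffine S] (g : S' ⟶ S) [Flat g] [Surjective g] [QuasiCompact g]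
    {L : X.Modules} (hL : PicF.IsInvertible L)
    (htriv : Nonempty ((Scheme.Modules.pullback (pullback.fst f g)).obj L ≅ Coh.structureModule (pullback f g))) :
    Nonempty (L ≅ Coh.structureModule X) := by
  obtain ⟨i⟩ := htriv
  let φ : Spec Γ(X, ⊤) ⟶ S := Spec.map f.appTop ≫ S.isoSpec.inv
  have hf : X.toSpecΓ ≫ φ = f := by
    rw [← Scheme.toSpecΓ_naturality_assoc]
    simp [Scheme.isoSpec]
  let g' := pullback.fst φ g
  let k : pullback X.toSpecΓ g' ⟶ pullback f g :=
    pullback.lift (pullback.fst _ _) (pullback.snd _ _ ≫ pullback.snd φ g) (by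
      rw [Category.assoc, ← pullback.condition (f := φ) (g := g), ← hf, pullback.condition_assoc])
  have hk : k ≫ pullback.fst f g = pullback.fst X.toSpecΓ g' := pullback.lift_fst _ _ _
  let i' : (Scheme.Modules.pullback (pullback.fst X.toSpecΓ g')).obj L ≅ Coh.structureModule _ :=
    (Scheme.Modules.pullbackCongr hk.symm).app L ≪≫ ((Scheme.Modules.pullbackComp k _).app L).symm ≪≫
      (Scheme.Modules.pullback k).mapIso i ≪≫ PicLoc.pullbackStructureIso k
  have hb := app_bijective_toSpecΓ (X := X)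
  obtain ⟨N, hN, ⟨j⟩⟩ := exists_eq_pullback X.toSpecΓ hb (affBij_of_bijective X.toSpecΓ hb) g'
    (pieces_of_quasiCompact g') hL ⟨i'⟩
  obtain ⟨t⟩ := nonempty_trivial_of_semilocal Γ(X, ⊤) hN
  exact ⟨j ≪≫ (Scheme.Modules.pullback X.toSpecΓ).mapIso t ≪≫ PicLoc.pullbackStructureIso _⟩

end Groth.Agent.LBDesc
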