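import Groth.Agent.ProjMor.Morph
import Groth.Agent.AffHull.LinAct
import Mathlib.AlgebraicGeometry.Sites.Fpqc

/-!
# Functions descend along flat surjective quasi-compact morphisms
-/

set_option autoImplicit false
set_option linter.style.haveILetI false
set_option backward.isDefEq.respectTransparency false
set_option backward.isDefEq.respectTransparency.types false

universe u

open CategoryTheory CategoryTheory.Limits AlgebraicGeometry Opposite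
open Groth.Agent.QC (resO resO_resO)
open ProjMor (ev ev_res ev_resO)

noncomputable section

namespace Groth.Agent.LBDesc

variable {Y Y' Z : Scheme.{u}}

/-- the ring of the affine line over the integers -/
abbrev lineRing : CommRingCat.{u} := CommRingCat.of (Polynomial (ULift.{u} ℤ))

/-- a function as a morphism to the affine line -/
def toLine (c : Γ(Y, ⊤)) : Y ⟶ Spec lineRing :=
  Y.toSpecΓ ≫ Spec.map (CommRingCat.ofHom
    (Polynomial.eval₂RingHom ((Int.castRingHom Γ(Y, ⊤)).comp ULift.ringEquiv.toRingHom) c))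

lemma fn_toLine (c : Γ(Y, ⊤)) : AffHull.fn (toLine c) (Polynomial.X : Polynomial (ULift.{u} ℤ)) = c := by
  rw [toLine, AffHull.fn_map]
  simp [AffHull.fn, Scheme.toSpecΓ_appTop]

lemma eq_toLine (m : Y ⟶ Spec lineRing) : m = toLine (AffHull.fn m (Polynomial.X : Polynomial (ULift.{u} ℤ))) := by
  refine AffHull.fn_injective fun x => RingHom.congr_fun ?_ x
  refine Polynomial.ringHom_ext (fun a => ?_) (fn_toLine _).symm
  have h : ∀ φ ψ : ULift.{u} ℤ →+* Γ(Y, ⊤), φ = ψ := fun φ ψ => RingHom.ext fun b => by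
    have := RingHom.congr_fun (RingHom.ext_int (φ.comp ULift.ringEquiv.symm.toRingHom)
      (ψ.comp ULift.ringEquiv.symm.toRingHom)) b.down
    exact this
  exact RingHom.congr_fun (h ((AffHull.fn m).comp Polynomial.C)
    ((AffHull.fn (toLine (AffHull.fn m Polynomial.X))).comp Polynomial.C)) a

/-- **functions descend** -/
theorem existsUnique_desc (g : Y' ⟶ Y) [EffectiveEpi g] (a : Γ(Y', ⊤))
    (h : ∀ {T : Scheme.{u}} (x y : T ⟶ Y'), x ≫ g = y ≫ g → x.appTop a = y.appTop a) :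
    ∃! b : Γ(Y, ⊤), g.appTop b = a := by
  have hc : ∀ {T : Scheme.{u}} (x : T ⟶ Y') (c : Γ(Y', ⊤)), x ≫ toLine c = toLine (x.appTop c) := fun x c =>
    (eq_toLine _).trans (congrArg toLine ((AffHull.fn_comp x _ _).trans (congrArg x.appTop (fn_toLine c))))
  have hdesc : ∀ {T : Scheme.{u}} (x y : T ⟶ Y'), x ≫ g = y ≫ g → x ≫ toLine a = y ≫ toLine a :=
    fun x y e => by rw [hc, hc, h x y e]
  refine ⟨AffHull.fn (EffectiveEpi.desc g (toLine a) hdesc) (Polynomial.X : Polynomial (ULift.{u} ℤ)), ?_, fun b hb => ?_⟩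
  · dsimp only
    rw [← AffHull.fn_comp, EffectiveEpi.fac, fn_toLine]
  · have e : toLine b = EffectiveEpi.desc g (toLine a) hdesc := by
      refine (cancel_epi g).1 ?_
      rw [EffectiveEpi.fac, eq_toLine (g ≫ toLine b), AffHull.fn_comp, fn_toLine, hb]
    exact (fn_toLine b).symm.trans (congrArg (fun m => AffHull.fn m (Polynomial.X : Polynomial (ULift.{u} ℤ))) e)

lemma ev_comp (x : Z ⟶ Y') (g : Y' ⟶ Y) {D : Y.Opens} {V : Y'.Opens} {W : Z.Opens} (h : V ≤ g ⁻¹ᵁ D)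
    (h' : W ≤ x ⁻¹ᵁ V) (b : Γ(Y, D)) :
    ev x V W h' (ev g D V h b) = ev (x ≫ g) D W (h'.trans (x.preimage_mono h)) b :=
  congrArg (fun φ : Γ(Y, D) ⟶ Γ(Z, W) => φ.hom b) (Scheme.Hom.appLE_comp_appLE x g D V W h h')

/-- **functions on an open descend**, for a restriction which is an effective epimorphism -/
theorem existsUnique_desc_open' (g : Y' ⟶ Y) (W : Y.Opens) [EffectiveEpi (g ∣_ W)]
    (a : Γ(Y', g ⁻¹ᵁ W))
    (h : ∀ {T : Scheme.{u}} (x y : T ⟶ Y') (V : T.Opens) (hx : V ≤ x ⁻¹ᵁ (g ⁻¹ᵁ W)) (hy : V ≤ y ⁻¹ᵁ (g ⁻¹ᵁ W)),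
      x ≫ g = y ≫ g → ev x (g ⁻¹ᵁ W) V hx a = ev y (g ⁻¹ᵁ W) V hy a) :
    ∃! b : Γ(Y, W), ev g W (g ⁻¹ᵁ W) le_rfl b = a := by
  let tY := W.topIso
  let tY' := (g ⁻¹ᵁ W).topIso
  have htop : ∀ b, (g ∣_ W).appTop (tY.inv b) = tY'.inv (ev g W (g ⁻¹ᵁ W) le_rfl b) := by
    intro b
    refine congrArg (fun φ : Γ(Y, W) ⟶ Γ((g ⁻¹ᵁ W : Y'.Opens).toScheme, ⊤) => φ.hom b) (?_ :
      tY.inv ≫ (g ∣_ W).appTop = g.appLE W (g ⁻¹ᵁ W) le_rfl ≫ tY'.inv)
    simp [tY, tY', Scheme.Opens.topIso, morphismRestrict_appTop, Scheme.Hom.app_eq_appLE]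
  have hι : ∀ {T : Scheme.{u}} (x : T ⟶ (g ⁻¹ᵁ W : Y'.Opens).toScheme),
      ∃ hx : (⊤ : T.Opens) ≤ (x ≫ (g ⁻¹ᵁ W).ι) ⁻¹ᵁ (g ⁻¹ᵁ W),
        x.appTop (tY'.inv a) = ev (x ≫ (g ⁻¹ᵁ W).ι) (g ⁻¹ᵁ W) ⊤ hx a := by
    intro T x
    refine ⟨by rw [Scheme.Hom.comp_preimage, Scheme.Opens.ι_preimage_self]; exact le_rfl, ?_⟩
    refine congrArg (fun φ : Γ(Y', g ⁻¹ᵁ W) ⟶ Γ(T, ⊤) => φ.hom a) (?_ :
      tY'.inv ≫ x.appTop = (x ≫ (g ⁻¹ᵁ W).ι).appLE _ ⊤ _)
    rw [← Scheme.Hom.appLE_comp_appLE x (g ⁻¹ᵁ W).ι (g ⁻¹ᵁ W) ⊤ ⊤ (by rw [Scheme.Opens.ι_preimage_self]) le_top,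
      Scheme.Opens.ι_appLE]
    simp [tY', Scheme.Opens.topIso, Scheme.Hom.app_eq_appLE]
    rfl
  obtain ⟨b, hb, hu⟩ := existsUnique_desc (g ∣_ W) (tY'.inv a) fun {T} x y e => by
    obtain ⟨hx, ex⟩ := hι x
    obtain ⟨hy, ey⟩ := hι y
    rw [ex, ey]
    refine h _ _ ⊤ hx hy ?_
    simp only [Category.assoc]
    rw [← morphismRestrict_ι g W, ← Category.assoc, ← Category.assoc, e]
  refine ⟨tY.hom b, ?_, fun b' hb' => ?_⟩
  · have := htop (tY.hom b)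
    simp only [Iso.hom_inv_id_apply, hb] at this
    have e := congrArg tY'.hom this
    simp only [Iso.inv_hom_id_apply] at e
    exact e.symm
  · rw [← hu (tY.inv b') (by simp only [htop, hb']), Iso.inv_hom_id_apply]

/-- **functions on an open descend** -/
theorem existsUnique_desc_open (g : Y' ⟶ Y) [Flat g] [Surjective g] [QuasiCompact g] (W : Y.Opens)
    (a : Γ(Y', g ⁻¹ᵁ W))
    (h : ∀ {T : Scheme.{u}} (x y : T ⟶ Y') (V : T.Opens) (hx : V ≤ x ⁻¹ᵁ (g ⁻¹ᵁ W)) (hy : V ≤ y ⁻¹ᵁ (g ⁻¹ᵁ W)),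
      x ≫ g = y ≫ g → ev x (g ⁻¹ᵁ W) V hx a = ev y (g ⁻¹ᵁ W) V hy a) :
    ∃! b : Γ(Y, W), ev g W (g ⁻¹ᵁ W) le_rfl b = a := by
  haveI : Flat (g ∣_ W) := IsZariskiLocalAtTarget.restrict (P := @Flat) inferInstance W
  haveI : Surjective (g ∣_ W) := IsZariskiLocalAtTarget.restrict (P := @Surjective) inferInstance W
  haveI : QuasiCompact (g ∣_ W) := IsZariskiLocalAtTarget.restrict (P := @QuasiCompact) inferInstance W
  exact existsUnique_desc_open' g W a h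

end Groth.Agent.LBDesc
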