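import Groth.Agent.LBDesc.Points
import Groth.Agent.MeroLib.Special

/-!
# Invariant generators exist near every point of the base
-/

set_option autoImplicit false
set_option backward.isDefEq.respectTransparency false
set_option backward.isDefEq.respectTransparency.types false
set_option linter.style.haveILetI false
set_option maxHeartbeats 1000000

universe u

open CategoryTheory CategoryTheory.Limits AlgebraicGeometry TopologicalSpace Opposite TensorProduct
open Groth.Agent.QC (res resO res_res res_smul resO_resO res_self app_res)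
open ProjMor (ev ev_res ev_resO eta eta_res eta_smul res_eta_smul)
open TMul (IsGen)

noncomputable section

namespace Groth.Agent.LBDesc

/-- an affine piece on which an invertible module is trivial -/
theorem exists_algebra_gen {S S' : Scheme.{u}} (h : S' ⟶ S) [Flat h] (hp : Pieces h) {L : S'.Modules}
    (hL : PicF.IsInvertible L) {V : S.Opens} (hV : IsAffineOpen V) :
    ∃ (B : CommRingCat.{u}) (_ : Algebra Γ(S, V) B) (b : Spec B ⟶ S'), Module.FaithfullyFlat Γ(S, V) B ∧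
      b ≫ h = sp Γ(S, V) B ≫ hV.fromSpec ∧ ∃ v : Γ((Scheme.Modules.pullback b).obj L, ⊤), IsGen v := by
  classical
  choose U e hxU he using fun x : S' => TMul.exists_isGen hL x
  let P : Scheme.{u} := ∐ fun x : S' => (U x : Scheme.{u})
  let u : P ⟶ S' := Sigma.desc fun x => (U x).ι
  let ιx : ∀ x : S', (U x : Scheme.{u}) ⟶ P := Sigma.ι (fun x : S' => (U x : Scheme.{u}))
  have hιu : ∀ x, ιx x ≫ u = (U x).ι := fun x => by simp [ιx, u]
  haveI : Flat u := IsZariskiLocalAtSource.sigmaDesc (fun x => inferInstance)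
  have hp' : Pieces (u ≫ h) := by
    intro V hV
    obtain ⟨κ, _, W, hW, hWV, hcov⟩ := hp V hV
    have key : ∀ (k : κ) (x : (W k : Set S')), ∃ O : S'.Opens, IsAffineOpen O ∧ x.1 ∈ O ∧ O ≤ W k ∧ O ≤ U x.1 := fun k x => by
      obtain ⟨O, hO, hxO, hOle⟩ := exists_isAffineOpen_mem_and_subset (X := S') (x := x.1) (U := W k ⊓ U x.1)
        ⟨x.2, hxU _⟩
      exact ⟨O, hO, hxO, fun z hz => (hOle hz).1, fun z hz => (hOle hz).2⟩
    choose O hO hxO hOW hOU using key
    choose T hT using fun k => (hW k).isCompact.elim_finite_subcover (fun x => (O k x : Set S')) (fun x => (O k x).isOpen)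
      (fun x hx => Set.mem_iUnion.2 ⟨⟨x, hx⟩, hxO k ⟨x, hx⟩⟩)
    refine ⟨Σ k, T k, inferInstance, fun q => ιx q.2.1.1 ''ᵁ ((U q.2.1.1).ι ⁻¹ᵁ O q.1 q.2.1), fun q => ?_, fun q => ?_, fun y hy => ?_⟩
    · exact ((hO q.1 q.2.1).preimage_of_isOpenImmersion _ (by
        rw [Scheme.Opens.opensRange_ι]; exact hOU q.1 q.2.1)).image_of_isOpenImmersion _
    · rintro _ ⟨z, hz, rfl⟩
      change (u ≫ h).base (ιx q.2.1.1 z) ∈ V
      rw [show (u ≫ h).base (ιx q.2.1.1 z) = h.base ((U q.2.1.1).ι z) from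
        congrArg h.base (congrArg (fun t => t.base z) (hιu q.2.1.1))]
      exact hWV q.1 (hOW q.1 q.2.1 hz)
    · obtain ⟨k, x, hx, rfl⟩ := hcov y hy
      obtain ⟨i, hiT, hxi⟩ := Set.mem_iUnion₂.1 (hT k hx)
      exact ⟨⟨k, ⟨i, hiT⟩⟩, ιx i.1 ⟨x, hOU k i hxi⟩, ⟨⟨x, hOU k i hxi⟩, hxi, rfl⟩,
        congrArg h.base (congrArg (fun t => t.base (⟨x, hOU k i hxi⟩ : (U i.1 : Scheme.{u}))) (hιu i.1))⟩
  obtain ⟨B, hA, b', hff, hb'⟩ := exists_algebra (u ≫ h) hp' hV
  refine ⟨B, hA, b' ≫ u, hff, by rw [Category.assoc, hb'], ?_⟩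
  have hop : ∀ x, b' ⁻¹ᵁ (ιx x).opensRange ≤ (b' ≫ u) ⁻¹ᵁ U x := fun x z hz => by
    obtain ⟨w, hw⟩ := hz
    change u.base (b'.base z) ∈ U x
    rw [← hw, show u.base (ιx x w) = (U x).ι w from congrArg (fun t => t.base w) (hιu x)]
    exact w.2
  obtain ⟨v, hv⟩ := MeroLib.exists_gen_of_disjoint (fun x => b' ⁻¹ᵁ (ιx x).opensRange)
    (fun x => res _ (hop x) (eta (b' ≫ u) L (U x) (e x))) (fun x => (C1Cap.isGen_eta _ (he x)).res _)
    (fun a b z ha hb => by
      by_contra hne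
      exact (disjoint_opensRange_sigmaι (fun x : S' => (U x : Scheme.{u})) a b hne).le_bot ⟨ha, hb⟩)
  have htop : (⨆ x, b' ⁻¹ᵁ (ιx x).opensRange) = ⊤ := top_unique fun z _ => by
    obtain ⟨k, z', hz'⟩ := (sigmaOpenCover fun x : S' => (U x : Scheme.{u})).exists_eq (b'.base z)
    exact Opens.mem_iSup.2 ⟨k, z', hz'⟩
  exact ⟨_, hv.res htop.ge⟩

end Groth.Agent.LBDesc
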