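import Groth.Agent.LBDesc.Trivial
import Groth.Agent.DQCoh.QCDescent
import Groth.Agent.MeroLib.Sections

/-!
# Invertible modules trivial after a flat covering of the base are pulled back from the base
-/

set_option autoImplicit false
set_option backward.isDefEq.respectTransparency false
set_option backward.isDefEq.respectTransparency.types false
set_option linter.style.haveILetI false
set_option maxHeartbeats 1000000

universe u

open CategoryTheory CategoryTheory.Limits AlgebraicGeometry TopologicalSpace Opposite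
open Groth.Agent.QC (res)
open TMul (IsGen)

noncomputable section

namespace Groth.Agent.LBDesc

variable {X S S' : Scheme.{u}}

/-- functions of the base are functions on affine flat base changes -/
def AffBij (f : X ⟶ S) : Prop := ∀ (R : CommRingCat.{u}) (t : Spec R ⟶ S) [Flat t],
  Function.Bijective (pullback.snd f t).appTop

/-- finitely many affine pieces of the covering over every affine open -/
def Pieces (h : S' ⟶ S) : Prop := ∀ V : S.Opens, IsAffineOpen V → ∃ (κ : Type u) (_ : Finite κ) (W : κ → S'.Opens),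
  (∀ k, IsAffineOpen (W k)) ∧ (∀ k, W k ≤ h ⁻¹ᵁ V) ∧ ∀ y ∈ V, ∃ k, ∃ x ∈ W k, h.base x = y

/-- a faithfully flat algebra mapping to the covering -/
theorem exists_algebra (h : S' ⟶ S) [Flat h] (hp : Pieces h) {V : S.Opens} (hV : IsAffineOpen V) :
    ∃ (B : CommRingCat.{u}) (_ : Algebra Γ(S, V) B) (b : Spec B ⟶ S'), Module.FaithfullyFlat Γ(S, V) B ∧
      b ≫ h = sp Γ(S, V) B ≫ hV.fromSpec := by
  obtain ⟨κ, _, W, hW, hWV, hcov⟩ := hp V hV
  haveI : IsAffine (V : Scheme.{u}) := hV
  haveI : ∀ k, IsAffine (W k : Scheme.{u}) := hW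
  let g : ∀ k, (W k : Scheme.{u}) ⟶ (V : Scheme.{u}) := fun k => h.resLE V (W k) (hWV k)
  let P : Scheme.{u} := ∐ fun k => (W k : Scheme.{u})
  let q : P ⟶ (V : Scheme.{u}) := Sigma.desc g
  haveI : ∀ k, Flat (g k) := fun k => inferInstanceAs (Flat (h.resLE V (W k) (hWV k)))
  haveI : Flat q := IsZariskiLocalAtSource.sigmaDesc (fun k => inferInstance)
  haveI : Surjective q := ⟨fun z => by
    obtain ⟨k, x, hx, hxy⟩ := hcov (V.ι.base z) z.2
    refine ⟨(Sigma.ι (fun k => (W k : Scheme.{u})) k).base ⟨x, hx⟩, V.ι.isOpenEmbedding.injective ?_⟩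
    have e : Sigma.ι (fun k => (W k : Scheme.{u})) k ≫ q ≫ V.ι = (W k).ι ≫ h := by
      simp [q, g, Scheme.Hom.resLE_comp_ι]
    exact (congrArg (fun t => t.base ⟨x, hx⟩) e).trans hxy⟩
  haveI : IsAffine P := inferInstance
  let m : Spec Γ(P, ⊤) ⟶ Spec Γ(S, V) := P.isoSpec.inv ≫ q ≫ hV.isoSpec.hom
  haveI : Flat m := inferInstance
  haveI : Surjective m := inferInstance
  letI : Algebra Γ(S, V) Γ(P, ⊤) := (Spec.preimage m).hom.toAlgebra
  have hm : sp Γ(S, V) Γ(P, ⊤) = m := by
    refine Eq.trans ?_ (Spec.map_preimage m)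
    rfl
  refine ⟨Γ(P, ⊤), inferInstance, P.isoSpec.inv ≫ Sigma.desc fun k => (W k).ι, ?_, ?_⟩
  · have := (flat_and_surjective_SpecMap_iff (Spec.preimage m)).1 (by rw [Spec.map_preimage]; exact ⟨inferInstance, inferInstance⟩)
    exact this
  · rw [hm]
    simp only [m, Category.assoc]
    congr 1
    rw [IsAffineOpen.isoSpec_hom_fromSpec]
    refine Sigma.hom_ext _ _ fun k => ?_
    simp [q, g, Scheme.Hom.resLE_comp_ι]

/-- **trivial after a flat covering of the base: trivial near the preimage of every point** -/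
theorem exists_gen_nhd (f : X ⟶ S) (hb : AffBij f) (h : S' ⟶ S) [Flat h] (hp : Pieces h) {L : X.Modules}
    (hL : PicF.IsInvertible L)
    (htriv : Nonempty ((Scheme.Modules.pullback (pullback.fst f h)).obj L ≅ Coh.structureModule _)) (s : S) :
    ∃ (U : S.Opens) (g : Γ(L, f ⁻¹ᵁ U)), s ∈ U ∧ IsGen g := by
  obtain ⟨i0⟩ := htriv
  obtain ⟨_, ⟨V, hV, rfl⟩, hsV, -⟩ := S.isBasis_affineOpens.exists_subset_of_mem_open (Set.mem_univ s) isOpen_univ
  obtain ⟨B, _, b, _, hbc⟩ := exists_algebra h hp hV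
  let i := IsAffineOpen.fromSpec hV
  let j := pullback.fst f i
  let f₁ := pullback.snd f i
  have hb₁ : Bij f₁ := fun R _ _ _ => by
    haveI : Flat (sp Γ(S, V) R) := HasRingHomProperty.Spec_iff.2 (RingHom.flat_algebraMap_iff.2 inferInstance)
    rw [← pullbackLeftPullbackSndIso_hom_snd f i (sp Γ(S, V) R), Scheme.Hom.comp_appTop]
    exact (ConcreteCategory.bijective_of_isIso (pullbackLeftPullbackSndIso f i (sp Γ(S, V) R)).hom.appTop).comp
      (hb (CommRingCat.of R) (sp Γ(S, V) R ≫ i))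
  let k : pullback f₁ (sp Γ(S, V) B) ⟶ pullback f h :=
    pullback.lift (pullback.fst _ _ ≫ j) (pullback.snd _ _ ≫ b) (by
      rw [Category.assoc, Category.assoc, hbc, pullback.condition]
      exact pullback.condition_assoc _)
  let L₁ := (Scheme.Modules.pullback j).obj L
  let i1 : (Scheme.Modules.pullback (pullback.fst f₁ (sp Γ(S, V) B))).obj L₁ ≅ Coh.structureModule _ :=
    (Scheme.Modules.pullbackComp _ j).app L ≪≫
      (Scheme.Modules.pullbackCongr (pullback.lift_fst _ _ _).symm).app L ≪≫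
      ((Scheme.Modules.pullbackComp k _).app L).symm ≪≫ (Scheme.Modules.pullback k).mapIso i0 ≪≫
      PicLoc.pullbackStructureIso k
  obtain ⟨e, he⟩ := W7Hull.exists_gen_of_iso i1
  obtain ⟨q, hq⟩ := (show s ∈ Set.range i.base by rw [IsAffineOpen.range_fromSpec hV]; exact hsV)
  obtain ⟨D, g₁, hqD, hg₁⟩ := exists_gen_over hb₁ (PicLoc.isInvertible_pullback j hL) e he q
  let φ := ((Scheme.Modules.restrictFunctorIsoPullback j).app L).inv
  have hg₂ := SymAlg.isGen_of_isGen_restrict j _ (MeroLib.IsGen.map_iso φ hg₁)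
  have heq : f ⁻¹ᵁ (i ''ᵁ D) = j ''ᵁ (f₁ ⁻¹ᵁ D) := by
    ext1
    exact (Scheme.image_preimage_eq_of_isPullback (IsPullback.of_hasPullback f i).flip D).symm
  refine ⟨i ''ᵁ D, res L heq.le _, ⟨q, hqD, hq⟩, hg₂.res heq.le⟩

/-- … hence pulled back from the base -/
theorem exists_eq_pullback (f : X ⟶ S) (hf : ∀ U : S.Opens, Function.Bijective (f.app U)) (hb : AffBij f)
    (h : S' ⟶ S) [Flat h] (hp : Pieces h) {L : X.Modules} (hL : PicF.IsInvertible L)
    (htriv : Nonempty ((Scheme.Modules.pullback (pullback.fst f h)).obj L ≅ Coh.structureModule _)) :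
    ∃ N : S.Modules, PicF.IsInvertible N ∧ Nonempty (L ≅ (Scheme.Modules.pullback f).obj N) := by
  obtain ⟨hN, hiso⟩ := W7See.seesaw_formal f hf L hL (exists_gen_nhd f hb h hp hL htriv)
  haveI := hiso
  exact ⟨_, hN, ⟨(asIso ((Scheme.Modules.pullbackPushforwardAdjunction f).counit.app L)).symm⟩⟩

end Groth.Agent.LBDesc
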