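import Groth.Agent.LBDesc.Points
import Groth.Agent.LBDesc.AlgGen

/-!
# Invariant generators exist near every point of the base
-/

set_option autoImplicit false
set_option backward.isDefEq.respectTransparency false
set_option backward.isDefEq.respectTransparency.types false
set_option linter.style.haveILetI false
set_option maxHeartbeats 1000000

universe u

open CategoryTheory CategoryTheory.Limits AlgebraicGeometry TopologicalSpace Opposite TensorProduct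
open Groth.Agent.QC (res resO res_res res_smul resO_resO res_self app_res)
open ProjMor (ev ev_res ev_resO eta eta_res eta_smul res_eta_smul)
open TMul (IsGen)

noncomputable section

namespace Groth.Agent.LBDesc

variable {Y Y' Z : Scheme.{u}} {g : Y' ⟶ Y} {p₁ p₂ : Z ⟶ Y'} (hZ : IsPullback p₁ p₂ g g)
  {L' : Y'.Modules} (θ : (Scheme.Modules.pullback p₁).obj L' ≅ (Scheme.Modules.pullback p₂).obj L')
  {ι : Type u} {O : ι → Y'.Opens} {t : ∀ i, Γ(L', O i)} {th : ∀ α β, Γ(Z, p₁ ⁻¹ᵁ O α ⊓ p₂ ⁻¹ᵁ O β)}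
  {A B : CommRingCat.{u}} [Algebra A B] (b : Spec B ⟶ Y')

/-- the coordinate of the trivialisation at a point of the piece -/
def aAt (a : ∀ α, Γ(Spec B, b ⁻¹ᵁ O α)) {T : Scheme.{u}} (h : T ⟶ Spec B) (V : T.Opens) (α : ι)
    (hV : V ≤ (h ≫ b) ⁻¹ᵁ O α) : Γ(T, V) :=
  ev h (b ⁻¹ᵁ O α) V hV (a α)

/-- a function of the piece at a point -/
def mAt (m : B) {T : Scheme.{u}} (h : T ⟶ Spec B) (V : T.Opens) : Γ(T, V) :=
  ev h ⊤ V le_top ((Scheme.ΓSpecIso B).inv m)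

variable (th) in
/-- compatibility of the coordinates on the diagonal -/
def Coord (a : ∀ α, Γ(Spec B, b ⁻¹ᵁ O α)) : Prop :=
  (∀ α, IsUnit (a α)) ∧ ∀ {T : Scheme.{u}} (h : T ⟶ Spec B) (V : T.Opens) (α α' : ι) (hx : V ≤ (h ≫ b) ⁻¹ᵁ O α)
    (hx' : V ≤ (h ≫ b) ⁻¹ᵁ O α'),
    aAt b a h V α' hx' * thp hZ th (h ≫ b) (h ≫ b) rfl V α' α hx' hx = aAt b a h V α hx

variable (th) in
/-- the twisted coordinate takes equal values at two points over the same point -/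
def Key (a : ∀ α, Γ(Spec B, b ⁻¹ᵁ O α)) (m : B) : Prop :=
  ∀ {T : Scheme.{u}} (h₁ h₂ : T ⟶ Spec B) (_ : h₁ ≫ sp A B = h₂ ≫ sp A B)
    (e : (h₁ ≫ b) ≫ g = (h₂ ≫ b) ≫ g) (V : T.Opens) (α β : ι) (hx : V ≤ (h₁ ≫ b) ⁻¹ᵁ O α)
    (hy : V ≤ (h₂ ≫ b) ⁻¹ᵁ O β),
    aAt b a h₁ V α hx * mAt m h₁ V * thp hZ th (h₁ ≫ b) (h₂ ≫ b) e V α β hx hy = aAt b a h₂ V β hy * mAt m h₂ V

/-- coordinates of a trivialisation on the piece -/
theorem exists_coord (hth : IsTh θ O t th) (ht : ∀ i, IsGen (t i)) (hcoc : Coc hZ th)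
    (v : Γ((Scheme.Modules.pullback b).obj L', ⊤)) (hv : IsGen v) : ∃ a, Coord hZ th b a := by
  choose a ha' using fun α => (C1Cap.isGen_eta b (ht α) (b ⁻¹ᵁ O α) le_rfl).2 (res _ le_top v)
  simp only [res_self] at ha'
  have hau : ∀ α, IsUnit (a α) := fun α =>
    W7Hull.isUnit_coeff (C1Cap.isGen_eta b (ht α)) (by rw [ha']; exact hv.res _)
  refine ⟨a, hau, fun {T} h V α α' hx hx' => ?_⟩
  obtain ⟨c, hc⟩ := (ht α (O α' ⊓ O α) inf_le_right).2 (res L' inf_le_left (t α'))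
  simp only at hc
  rw [thp_diag hZ θ hth ht hcoc (h ≫ b) V α α' hx hx' c hc.symm]
  have e1 : res _ (b.preimage_mono (inf_le_left : O α' ⊓ O α ≤ O α')) (eta b L' (O α') (t α')) =
      ev b _ _ le_rfl c • res _ (b.preimage_mono (inf_le_right : O α' ⊓ O α ≤ O α)) (eta b L' (O α) (t α)) := by
    rw [eta_res b L' (inf_le_left : O α' ⊓ O α ≤ O α'), eta_res b L' (inf_le_right : O α' ⊓ O α ≤ O α), ← hc,
      eta_smul, ProjMor.ev, Scheme.Hom.app_eq_appLE]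
  have e2 : resO _ (b.preimage_mono (inf_le_left : O α' ⊓ O α ≤ O α')) (a α') * ev b _ _ le_rfl c =
      resO _ (b.preimage_mono (inf_le_right : O α' ⊓ O α ≤ O α)) (a α) := by
    refine (C1Cap.isGen_eta b (ht α) _ (b.preimage_mono inf_le_right)).1 ?_
    change _ • res _ _ (eta b L' (O α) (t α)) = _ • res _ _ (eta b L' (O α) (t α))
    rw [mul_smul, ← e1, ← res_smul, ← res_smul, ha', ha', res_res, res_res]
  have e3 := congrArg (ev h _ V (show V ≤ h ⁻¹ᵁ (b ⁻¹ᵁ (O α' ⊓ O α)) from le_inf hx' hx)) e2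
  rw [map_mul, ev_resO, ev_resO, ev_comp] at e3
  exact e3


/-- a point of the piece -/
abbrev pt {R : Type u} [CommRing R] [Algebra A R] (φ : B →ₐ[A] R) : Spec (CommRingCat.of R) ⟶ Spec B :=
  Spec.map (CommRingCat.ofHom φ.toRingHom)

/-- a scalar of the test ring on an open -/
def sc (R : Type u) [CommRing R] (r : R) (V : (Spec (CommRingCat.of R)).Opens) : Γ(Spec (CommRingCat.of R), V) :=
  resO _ le_top ((Scheme.ΓSpecIso (CommRingCat.of R)).inv r)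

lemma sc_mul (R : Type u) [CommRing R] (r r' : R) (V : (Spec (CommRingCat.of R)).Opens) :
    sc R (r * r') V = sc R r V * sc R r' V := by
  simp [sc, Groth.Agent.QC.resO]

lemma mAt_pt {R : Type u} [CommRing R] [Algebra A R] (χ : B →ₐ[A] R) (m : B) (P : (Spec (CommRingCat.of R)).Opens) :
    mAt m (pt χ) P = sc R (χ m) P := by
  have e0 : (Scheme.ΓSpecIso (CommRingCat.of R)).inv (χ m) = (pt χ).appTop ((Scheme.ΓSpecIso B).inv m) :=
    congrArg (fun h : B ⟶ _ => h.hom m) (Scheme.ΓSpecIso_inv_naturality (CommRingCat.ofHom χ.toRingHom))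
  simp only [sc, mAt, e0]
  exact (ev_res (pt χ) (D := ⊤) (V := ⊤) le_top le_top _).symm.trans
    (by simp only [ProjMor.ev, Scheme.Hom.appTop, Scheme.Hom.app_eq_appLE]; rfl)

lemma hpg {i : Spec A ⟶ Y} (hb : b ≫ g = sp A B ≫ i) {R : Type u} [CommRing R] [Algebra A R] (φ ψ : B →ₐ[A] R) :
    (pt φ ≫ b) ≫ g = (pt ψ ≫ b) ≫ g := by
  have hpt : ∀ χ : B →ₐ[A] R, pt χ ≫ sp A B = sp A R := fun χ => by
    simp [pt, sp, ← Spec.map_comp, ← CommRingCat.ofHom_comp]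
  rw [Category.assoc, Category.assoc, hb, ← Category.assoc, ← Category.assoc]
  exact congrArg (· ≫ i) ((hpt φ).trans (hpt ψ).symm)

variable (th) in
/-- the unit relating two points -/
def RelW {i : Spec A ⟶ Y} (hb : b ≫ g = sp A B ≫ i) (a : ∀ α, Γ(Spec B, b ⁻¹ᵁ O α)) (R : Type u) [CommRing R]
    [Algebra A R] (φ ψ : B →ₐ[A] R) (r : R) : Prop :=
  ∀ (V : (Spec (CommRingCat.of R)).Opens) (α β : ι) (hx : V ≤ (pt φ ≫ b) ⁻¹ᵁ O α) (hy : V ≤ (pt ψ ≫ b) ⁻¹ᵁ O β),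
    aAt b a (pt φ) V α hx * thp hZ th (pt φ ≫ b) (pt ψ ≫ b) (hpg b hb φ ψ) V α β hx hy = sc R r V * aAt b a (pt ψ) V β hy

variable {b} {i : Spec A ⟶ Y} (hb : b ≫ g = sp A B ≫ i) {a : ∀ α, Γ(Spec B, b ⁻¹ᵁ O α)}

lemma isUnit_aAt (ha : Coord hZ th b a) {T : Scheme.{u}} (h : T ⟶ Spec B) (V : T.Opens) (α : ι)
    (hx : V ≤ (h ≫ b) ⁻¹ᵁ O α) : IsUnit (aAt b a h V α hx) :=
  (ha.1 α).map _

lemma cover_pair (hO : ∀ x : Y', ∃ i, x ∈ O i) {R : Type u} [CommRing R] [Algebra A R] (φ ψ : B →ₐ[A] R)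
    (z : Spec (CommRingCat.of R)) : ∃ ab : ι × ι, z ∈ (pt φ ≫ b) ⁻¹ᵁ O ab.1 ⊓ (pt ψ ≫ b) ⁻¹ᵁ O ab.2 := by
  obtain ⟨α, hα⟩ := hO ((pt φ ≫ b).base z)
  obtain ⟨β, hβ⟩ := hO ((pt ψ ≫ b).base z)
  exact ⟨(α, β), hα, hβ⟩

theorem RelW.unique (hO : ∀ x : Y', ∃ i, x ∈ O i) (ha : Coord hZ th b a) {R : Type u} [CommRing R] [Algebra A R]
    {φ ψ : B →ₐ[A] R} {r r' : R} (h : RelW hZ th b hb a R φ ψ r) (h' : RelW hZ th b hb a R φ ψ r') : r = r' := by
  refine (ConcreteCategory.bijective_of_isIso (Scheme.ΓSpecIso (CommRingCat.of R)).inv).1 ?_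
  refine (Spec (CommRingCat.of R)).sheaf.eq_of_locally_eq'
    (fun ab : ι × ι => (pt φ ≫ b) ⁻¹ᵁ O ab.1 ⊓ (pt ψ ≫ b) ⁻¹ᵁ O ab.2) ⊤ (fun _ => homOfLE le_top)
    (fun z _ => Opens.mem_iSup.2 (cover_pair (b := b) hO φ ψ z)) _ _ fun ab => ?_
  exact ((isUnit_aAt hZ ha) (pt ψ) _ ab.2 inf_le_right).mul_right_cancel
    ((h _ ab.1 ab.2 inf_le_left inf_le_right).symm.trans (h' _ ab.1 ab.2 inf_le_left inf_le_right))

theorem exists_relW (hO : ∀ x : Y', ∃ i, x ∈ O i) (hcoc : Coc hZ th) (ha : Coord hZ th b a) {R : Type u} [CommRing R]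
    [Algebra A R] (φ ψ : B →ₐ[A] R) : ∃ r, RelW hZ th b hb a R φ ψ r := by
  have hA := @ha.2
  let Q := fun ab : ι × ι => (pt φ ≫ b) ⁻¹ᵁ O ab.1 ⊓ (pt ψ ≫ b) ⁻¹ᵁ O ab.2
  have key : ∀ (V : (Spec (CommRingCat.of R)).Opens) (α β α' β' : ι) (hx : V ≤ (pt φ ≫ b) ⁻¹ᵁ O α)
      (hy : V ≤ (pt ψ ≫ b) ⁻¹ᵁ O β) (hx' : V ≤ (pt φ ≫ b) ⁻¹ᵁ O α') (hy' : V ≤ (pt ψ ≫ b) ⁻¹ᵁ O β'),
      aAt b a (pt φ) V α' hx' * thp hZ th _ _ (hpg b hb φ ψ) V α' β' hx' hy' * aAt b a (pt ψ) V β hy =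
        aAt b a (pt φ) V α hx * thp hZ th _ _ (hpg b hb φ ψ) V α β hx hy * aAt b a (pt ψ) V β' hy' := by
    intro V α β α' β' hx hy hx' hy'
    conv_rhs => rw [← hA (pt φ) V α α' hx hx']
    conv_lhs => rw [← hA (pt ψ) V β β' hy hy']
    rw [_root_.mul_assoc (aAt b a (pt φ) V α' hx'), _root_.mul_assoc (aAt b a (pt φ) V α' hx'),
      hcoc _ _ _ rfl (hpg b hb φ ψ) V α' α β hx' hx hy,
      ← hcoc _ _ _ (hpg b hb φ ψ) rfl V α' β' β hx' hy' hy]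
    ring
  obtain ⟨z, hz, -⟩ := (Spec (CommRingCat.of R)).sheaf.existsUnique_gluing' Q ⊤ (fun _ => homOfLE le_top)
    (fun z _ => Opens.mem_iSup.2 (cover_pair (b := b) hO φ ψ z))
    (fun ab => aAt b a (pt φ) (Q ab) ab.1 inf_le_left * thp hZ th _ _ (hpg b hb φ ψ) (Q ab) ab.1 ab.2 inf_le_left inf_le_right *
      (((isUnit_aAt hZ ha) (pt ψ) (Q ab) ab.2 inf_le_right).unit⁻¹).val)
    (fun ab ab' => by
      suffices h : ∀ (V : (Spec (CommRingCat.of R)).Opens) (h1 : V ≤ Q ab) (h2 : V ≤ Q ab'),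
          resO _ h1 (aAt b a (pt φ) (Q ab) ab.1 inf_le_left *
            thp hZ th _ _ (hpg b hb φ ψ) (Q ab) ab.1 ab.2 inf_le_left inf_le_right *
              (((isUnit_aAt hZ ha) (pt ψ) (Q ab) ab.2 inf_le_right).unit⁻¹).val) =
          resO _ h2 (aAt b a (pt φ) (Q ab') ab'.1 inf_le_left *
            thp hZ th _ _ (hpg b hb φ ψ) (Q ab') ab'.1 ab'.2 inf_le_left inf_le_right *
              (((isUnit_aAt hZ ha) (pt ψ) (Q ab') ab'.2 inf_le_right).unit⁻¹).val) from h _ inf_le_left inf_le_right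
      intro V h1 h2
      refine (((isUnit_aAt hZ ha) (pt ψ) V ab.2 (h1.trans inf_le_right)).mul ((isUnit_aAt hZ ha) (pt ψ) V ab'.2 (h2.trans inf_le_right))).mul_right_cancel ?_
      have r1 : ∀ (cd : ι × ι) (h : V ≤ Q cd),
          resO _ h (((isUnit_aAt hZ ha) (pt ψ) (Q cd) cd.2 inf_le_right).unit⁻¹).val * aAt b a (pt ψ) V cd.2 (h.trans inf_le_right) = 1 :=
        fun cd h => by
          rw [show aAt b a (pt ψ) V cd.2 (h.trans inf_le_right) = resO _ h (aAt b a (pt ψ) (Q cd) cd.2 inf_le_right) from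
            (ev_res _ _ _ _).symm, ← map_mul, IsUnit.val_inv_mul, map_one]
      rw [map_mul, map_mul, map_mul, map_mul]
      rw [show resO _ h1 (aAt b a (pt φ) (Q ab) ab.1 inf_le_left) = aAt b a (pt φ) V ab.1 (h1.trans inf_le_left) from ev_res _ _ _ _,
        show resO _ h2 (aAt b a (pt φ) (Q ab') ab'.1 inf_le_left) = aAt b a (pt φ) V ab'.1 (h2.trans inf_le_left) from ev_res _ _ _ _,
        resO_thp, resO_thp]
      have k := key V ab.1 ab.2 ab'.1 ab'.2 (h1.trans inf_le_left) (h1.trans inf_le_right) (h2.trans inf_le_left)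
        (h2.trans inf_le_right)
      linear_combination (aAt b a (pt φ) V ab.1 (h1.trans inf_le_left) *
          thp hZ th _ _ (hpg b hb φ ψ) V ab.1 ab.2 (h1.trans inf_le_left) (h1.trans inf_le_right) *
            aAt b a (pt ψ) V ab'.2 (h2.trans inf_le_right)) * r1 ab h1 -
        (aAt b a (pt φ) V ab'.1 (h2.trans inf_le_left) *
          thp hZ th _ _ (hpg b hb φ ψ) V ab'.1 ab'.2 (h2.trans inf_le_left) (h2.trans inf_le_right) *
            aAt b a (pt ψ) V ab.2 (h1.trans inf_le_right)) * r1 ab' h2 - k)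
  obtain ⟨r, hr⟩ := (ConcreteCategory.bijective_of_isIso (Scheme.ΓSpecIso (CommRingCat.of R)).inv).2 z
  refine ⟨r, fun V α β hx hy => ?_⟩
  have h1 : V ≤ Q (α, β) := le_inf hx hy
  have e := congrArg (resO _ h1) (hz (α, β))
  rw [map_mul, map_mul, resO_thp] at e
  rw [show sc R r V = resO _ le_top z by rw [← hr]; rfl]
  have ez : resO _ h1 ((Spec (CommRingCat.of R)).presheaf.map (homOfLE (le_top : Q (α, β) ≤ ⊤)).op z) =
      resO _ le_top z := resO_resO h1 le_top z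
  rw [show resO _ le_top z = _ from ez.symm.trans e, _root_.mul_assoc, _root_.mul_assoc]
  rw [show aAt b a (pt ψ) V β hy = resO _ h1 (aAt b a (pt ψ) (Q (α, β)) β inf_le_right) from (ev_res _ _ _ _).symm, ← map_mul,
    IsUnit.val_inv_mul, map_one, _root_.mul_one]
  exact congrArg (· * _) (ev_res _ _ _ _).symm

theorem RelW.map {R R' : Type u} [CommRing R] [Algebra A R] [CommRing R'] [Algebra A R'] {φ ψ : B →ₐ[A] R} {r : R}
    (h : RelW hZ th b hb a R φ ψ r) (f : R →ₐ[A] R') : RelW hZ th b hb a R' (f.comp φ) (f.comp ψ) (f r) := by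
  intro V α β hx hy
  let k : Spec (CommRingCat.of R') ⟶ Spec (CommRingCat.of R) := Spec.map (CommRingCat.ofHom f.toRingHom)
  have hk : ∀ χ : B →ₐ[A] R, k ≫ pt χ = pt (f.comp χ) := fun χ => by
    simp [k, pt, ← Spec.map_comp, ← CommRingCat.ofHom_comp, AlgHom.comp_toRingHom]
  let V' : (Spec (CommRingCat.of R)).Opens := (pt φ ≫ b) ⁻¹ᵁ O α ⊓ (pt ψ ≫ b) ⁻¹ᵁ O β
  have hV : V ≤ k ⁻¹ᵁ V' := by
    rw [Scheme.Hom.preimage_inf, ← Scheme.Hom.comp_preimage, ← Scheme.Hom.comp_preimage, ← Category.assoc,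
      ← Category.assoc, hk, hk]
    exact le_inf hx hy
  have e := congrArg (ev k V' V hV) (h V' α β inf_le_left inf_le_right)
  rw [map_mul, map_mul, ev_thp] at e
  have ea : ∀ (χ : B →ₐ[A] R) (γ : ι) (h1 : V' ≤ (pt χ ≫ b) ⁻¹ᵁ O γ) (h2 : V ≤ (pt (f.comp χ) ≫ b) ⁻¹ᵁ O γ),
      ev k V' V hV (aAt b a (pt χ) V' γ h1) = aAt b a (pt (f.comp χ)) V γ h2 := fun χ γ h1 h2 =>
    (ev_comp k (pt χ) h1 hV (a γ)).trans (ev_congr (hk χ) _ _ _)
  have es : ev k V' V hV (sc R r V') = sc R' (f r) V := by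
    have e0 : (Scheme.ΓSpecIso (CommRingCat.of R')).inv (f r) =
        k.appTop ((Scheme.ΓSpecIso (CommRingCat.of R)).inv r) :=
      congrArg (fun h : CommRingCat.of R ⟶ _ => h.hom r)
        (Scheme.ΓSpecIso_inv_naturality (CommRingCat.ofHom f.toRingHom))
    simp only [sc, ev_resO, e0]
    exact (ev_res k (D := ⊤) (V := ⊤) le_top le_top _).symm.trans
      (by simp only [ProjMor.ev, Scheme.Hom.appTop, Scheme.Hom.app_eq_appLE]; rfl)
  rw [es, ea φ α inf_le_left hx, ea ψ β inf_le_right hy] at e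
  exact (congrArg (_ * ·) (thp_congr hZ th (by rw [← Category.assoc, hk]) (by rw [← Category.assoc, hk]) _ _ V α β _ _ _ _)).symm.trans e

theorem RelW.trans (hO : ∀ x : Y', ∃ i, x ∈ O i) (hcoc : Coc hZ th) {R : Type u} [CommRing R] [Algebra A R]
    {φ ψ χ : B →ₐ[A] R} {r r' : R} (h : RelW hZ th b hb a R φ ψ r) (h' : RelW hZ th b hb a R ψ χ r') :
    RelW hZ th b hb a R φ χ (r * r') := by
  intro V α γ hx hz
  refine (Spec (CommRingCat.of R)).sheaf.eq_of_locally_eq' (fun β => V ⊓ (pt ψ ≫ b) ⁻¹ᵁ O β) V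
    (fun _ => homOfLE inf_le_left) (fun z hz' => Opens.mem_iSup.2 ((hO _).imp fun β hβ => ⟨hz', hβ⟩)) _ _ fun β => ?_
  change resO _ inf_le_left (aAt b a (pt φ) V α hx * thp hZ th _ _ (hpg b hb φ χ) V α γ hx hz) =
    resO _ inf_le_left (sc R (r * r') V * aAt b a (pt χ) V γ hz)
  have es : ∀ r, resO _ (inf_le_left : V ⊓ (pt ψ ≫ b) ⁻¹ᵁ O β ≤ V) (sc R r V) = sc R r _ := fun r => resO_resO _ _ _
  rw [map_mul, map_mul, resO_thp, es, sc_mul,
    show resO _ inf_le_left (aAt b a (pt φ) V α hx) = aAt b a (pt φ) _ α (inf_le_left.trans hx) from ev_res _ _ _ _,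
    show resO _ inf_le_left (aAt b a (pt χ) V γ hz) = aAt b a (pt χ) _ γ (inf_le_left.trans hz) from ev_res _ _ _ _,
    ← hcoc _ _ _ (hpg b hb φ ψ) (hpg b hb ψ χ) _ α β γ (inf_le_left.trans hx) inf_le_right (inf_le_left.trans hz),
    ← _root_.mul_assoc, h _ α β _ _, _root_.mul_assoc, h' _ β γ _ _, ← _root_.mul_assoc]

theorem key_of_relW_at {R : Type u} [CommRing R] [Algebra A R] {φ ψ : B →ₐ[A] R} {m : B} {w : R}
    (hw : RelW hZ th b hb a R φ ψ w) (hm : w * φ m = ψ m) {T : Scheme.{u}} (z : T ⟶ Spec (CommRingCat.of R))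
    (h₁ h₂ : T ⟶ Spec B) (hl : z ≫ pt φ = h₁) (hr : z ≫ pt ψ = h₂) (e : (h₁ ≫ b) ≫ g = (h₂ ≫ b) ≫ g)
    (V : T.Opens) (α β : ι) (hx : V ≤ (h₁ ≫ b) ⁻¹ᵁ O α) (hy : V ≤ (h₂ ≫ b) ⁻¹ᵁ O β) :
    aAt b a h₁ V α hx * mAt m h₁ V * thp hZ th (h₁ ≫ b) (h₂ ≫ b) e V α β hx hy = aAt b a h₂ V β hy * mAt m h₂ V := by
  subst hl hr
  let P : (Spec (CommRingCat.of R)).Opens := (pt φ ≫ b) ⁻¹ᵁ O α ⊓ (pt ψ ≫ b) ⁻¹ᵁ O β
  have hVP : V ≤ z ⁻¹ᵁ P := by
    rw [Scheme.Hom.preimage_inf, ← Scheme.Hom.comp_preimage, ← Scheme.Hom.comp_preimage, ← Category.assoc, ← Category.assoc]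
    exact le_inf hx hy
  have huniv : aAt b a (pt φ) P α inf_le_left * mAt m (pt φ) P *
      thp hZ th (pt φ ≫ b) (pt ψ ≫ b) (hpg b hb φ ψ) P α β inf_le_left inf_le_right =
      aAt b a (pt ψ) P β inf_le_right * mAt m (pt ψ) P := by
    rw [mul_right_comm, hw P α β inf_le_left inf_le_right, mAt_pt, mAt_pt, ← hm, sc_mul]
    ring
  have e1 := congrArg (ev z P V hVP) huniv
  rw [map_mul, map_mul, map_mul, ev_thp] at e1
  have ea : ∀ (χ : B →ₐ[A] R) (γ : ι) (h1 : P ≤ (pt χ ≫ b) ⁻¹ᵁ O γ) (h2 : V ≤ ((z ≫ pt χ) ≫ b) ⁻¹ᵁ O γ),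
      ev z P V hVP (aAt b a (pt χ) P γ h1) = aAt b a (z ≫ pt χ) V γ h2 := fun χ γ h1 h2 =>
    ev_comp z (pt χ) h1 hVP (a γ)
  have em : ∀ χ : B →ₐ[A] R, ev z P V hVP (mAt m (pt χ) P) = mAt m (z ≫ pt χ) V := fun χ =>
    ev_comp z (pt χ) le_top hVP _
  rw [ea φ α inf_le_left hx, em φ, ea ψ β inf_le_right hy, em ψ] at e1
  rw [thp_congr hZ th (Category.assoc z (pt φ) b) (Category.assoc z (pt ψ) b) e
    (by rw [Category.assoc, Category.assoc] at e ⊢; rwa [Category.assoc, Category.assoc] at *) V α β hx hy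
    (by rw [← Category.assoc]; exact hx) (by rw [← Category.assoc]; exact hy)]
  exact e1

theorem key_of_relW {m : B} {w : B ⊗[A] B}
    (hw : RelW hZ th b hb a (B ⊗[A] B) Algebra.TensorProduct.includeLeft Algebra.TensorProduct.includeRight w)
    (hm : w * (m ⊗ₜ 1) = 1 ⊗ₜ m) : Key hZ th b (A := A) a m := by
  intro T h₁ h₂ hh e V α β hx hy
  refine key_of_relW_at hZ hb hw hm (pullback.lift h₁ h₂ hh ≫ (pullbackSpecIso A B B).hom) h₁ h₂ ?_ ?_ e V α β hx hy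
  · exact (Category.assoc _ _ _).trans ((congrArg (pullback.lift h₁ h₂ hh ≫ ·) (pullbackSpecIso_hom_fst A B B)).trans
      (pullback.lift_fst _ _ _))
  · exact (Category.assoc _ _ _).trans ((congrArg (pullback.lift h₁ h₂ hh ≫ ·) (pullbackSpecIso_hom_snd A B B)).trans
      (pullback.lift_snd _ _ _))

/-- **a twisted coordinate, near a point of the affine base** -/
theorem exists_key [Module.FaithfullyFlat A B] (hb : b ≫ g = sp A B ≫ i) (hO : ∀ x : Y', ∃ i, x ∈ O i)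
    (hcoc : Coc hZ th) (ha : Coord hZ th b a) (q₀ : PrimeSpectrum A) :
    ∃ f : A, f ∉ q₀.asIdeal ∧ ∃ m n : B, m * n = algebraMap A B f ∧ Key hZ th b (A := A) a m := by
  choose W hW using fun (R : Type u) (_ : CommRing R) (_ : Algebra A R) (φ ψ : B →ₐ[A] R) =>
    exists_relW hZ hb hO hcoc ha φ ψ
  obtain ⟨fA, hfA, m, n, hmn, hm⟩ := exists_coboundary (A := A) (B := B) (fun R i1 i2 _ φ ψ => W R i1 i2 φ ψ)
    (fun R R' _ _ _ _ _ _ f φ ψ => RelW.unique hZ hb hO ha ((hW R _ _ φ ψ).map hZ hb f) (hW R' _ _ _ _))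
    (fun R _ _ _ φ => RelW.unique hZ hb hO ha (hW R _ _ φ φ) fun V α β hx hy => by
      rw [show sc R 1 V = 1 by simp [sc, Groth.Agent.QC.resO], _root_.one_mul]
      exact ha.2 (pt φ) V β α hy hx)
    (fun R _ _ _ φ ψ χ => RelW.unique hZ hb hO ha ((hW R _ _ φ ψ).trans hZ hb hO hcoc (hW R _ _ ψ χ)) (hW R _ _ φ χ))
    q₀
  exact ⟨fA, hfA, m, n, hmn, key_of_relW hZ hb (hW (B ⊗[A] B) _ _ _ _) hm⟩

end Groth.Agent.LBDesc
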