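import Groth.Agent.LBDesc.Base
import Groth.Agent.QC.IdealMod

/-!
# The descended module of an invertible module with an isomorphism of its two inverse images
-/

set_option autoImplicit false
set_option backward.isDefEq.respectTransparency false
set_option backward.isDefEq.respectTransparency.types false
set_option linter.style.haveILetI false
set_option maxHeartbeats 1000000

universe u

open CategoryTheory CategoryTheory.Limits AlgebraicGeometry TopologicalSpace Opposite
open Groth.Agent.QC (res resO res_res res_smul resO_resO res_self app_res)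
open ProjMor (ev ev_res ev_resO eta eta_res eta_smul res_eta_smul)
open TMul (IsGen)

noncomputable section

namespace Groth.Agent.LBDesc

variable {Y Y' Z : Scheme.{u}} {g : Y' ⟶ Y} {p₁ p₂ : Z ⟶ Y'}
  (w : p₁ ≫ g = p₂ ≫ g) {L' : Y'.Modules}
  (θ : (Scheme.Modules.pullback p₁).obj L' ≅ (Scheme.Modules.pullback p₂).obj L')

include w in
lemma preimage_eq (V : Y.Opens) : p₂ ⁻¹ᵁ (g ⁻¹ᵁ V) = p₁ ⁻¹ᵁ (g ⁻¹ᵁ V) := by
  rw [← Scheme.Hom.comp_preimage, ← Scheme.Hom.comp_preimage, w]

/-- the defect of invariance of a section -/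
def defectApp (V : Y.Opens) (s : Γ(L', g ⁻¹ᵁ V)) : Γ((Scheme.Modules.pullback p₂).obj L', p₂ ⁻¹ᵁ (g ⁻¹ᵁ V)) :=
  res _ (preimage_eq w V).le (θ.hom.app _ (eta p₁ L' _ s)) - eta p₂ L' _ s

lemma defectApp_add (V : Y.Opens) (s t : Γ(L', g ⁻¹ᵁ V)) :
    defectApp w θ V (s + t) = defectApp w θ V s + defectApp w θ V t := by
  unfold defectApp
  rw [map_add, map_add, map_add, map_add]
  abel

lemma defectApp_smul (V : Y.Opens) (r : Γ(Y, V)) (s : Γ(L', g ⁻¹ᵁ V)) :
    defectApp w θ V (g.app V r • s) =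
      p₂.app (g ⁻¹ᵁ V) (g.app V r) • defectApp w θ V s := by
  unfold defectApp
  rw [eta_smul, eta_smul, Scheme.Modules.Hom.app_smul, res_smul, smul_sub]
  congr 2
  have e : ∀ (q : Z ⟶ Y') {W : Z.Opens} (h : W ≤ q ⁻¹ᵁ (g ⁻¹ᵁ V)),
      resO Z h (q.app (g ⁻¹ᵁ V) (g.app V r)) = ev (q ≫ g) V W (h.trans (le_of_eq rfl)) r := by
    intro q W h
    change (g.app V ≫ q.app (g ⁻¹ᵁ V) ≫ Z.presheaf.map (homOfLE h).op) r = _
    simp [ProjMor.ev, Scheme.Hom.appLE, Scheme.Hom.comp_app]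
  exact (e p₁ (preimage_eq w V).le).trans ((ev_congr w _ (show p₂ ⁻¹ᵁ (g ⁻¹ᵁ V) ≤ (p₂ ≫ g) ⁻¹ᵁ V from le_rfl) r).trans
    ((e p₂ le_rfl).symm.trans (Groth.Agent.QC.resO_self _ _)))

lemma defectApp_res {V W : Y.Opens} (h : W ≤ V) (s : Γ(L', g ⁻¹ᵁ V)) :
    defectApp w θ W (res L' (g.preimage_mono h) s) =
      res _ (p₂.preimage_mono (g.preimage_mono h)) (defectApp w θ V s) := by
  unfold defectApp
  rw [map_sub, ← eta_res p₁ L', ← eta_res p₂ L', ← app_res, res_res, res_res]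

/-- the defect as a morphism of modules -/
def defectHom : (Scheme.Modules.pushforward g).obj L' ⟶
    (Scheme.Modules.pushforward (p₂ ≫ g)).obj ((Scheme.Modules.pullback p₂).obj L') :=
  ⟨PresheafOfModules.homMk
    { app := fun V => AddCommGrpCat.ofHom (AddMonoidHom.mk' (defectApp w θ V.unop) (defectApp_add w θ V.unop))
      naturality := fun V W h => by
        ext s
        exact defectApp_res w θ (leOfHom h.unop) s }
    fun V r s => defectApp_smul w θ V.unop r s⟩

/-- the descended module -/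
def desc : Y.Modules := kernel (defectHom w θ)

/-- its inclusion -/
def descι : desc w θ ⟶ (Scheme.Modules.pushforward g).obj L' := kernel.ι _

lemma mem_range_descι (V : Y.Opens) (s : Γ(L', g ⁻¹ᵁ V)) :
    s ∈ Set.range ((descι w θ).app V) ↔ defectApp w θ V s = 0 :=
  QC.mem_range_kernel_app (defectHom w θ) V s

variable (hZ : IsPullback p₁ p₂ g g) (hd : ∀ V : Y.Opens, EffectiveEpi (g ∣_ V))

include hZ hd in
theorem exists_gen_desc {D : Y.Opens} {s : Γ(L', g ⁻¹ᵁ D)} (hs : IsGen s) (hinv : defectApp w θ D s = 0) :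
    ∃ l : Γ(desc w θ, D), IsGen l ∧ (descι w θ).app D l = s := by
  obtain ⟨l, hl⟩ := (mem_range_descι w θ D s).2 hinv
  refine ⟨l, fun V hV => ?_, hl⟩
  have hι : ∀ c : Γ(Y, V), (descι w θ).app V (c • res _ hV l) = g.app V c • res L' (g.preimage_mono hV) s := fun c => by
    rw [Scheme.Modules.Hom.app_smul, ← app_res, hl]
    rfl
  have hinj : Function.Injective ((descι w θ).app V) :=
    (QC.mono_iff_app_injective _).1 (inferInstanceAs (Mono (kernel.ι _))) V
  haveI := hd V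
  refine ⟨fun c c' e => ?_, fun t => ?_⟩
  · have e1 := congrArg ((descι w θ).app V) e
    rw [hι, hι] at e1
    have e2 := (hs _ (g.preimage_mono hV)).1 e1
    obtain ⟨b, -, hb⟩ := existsUnique_desc_open' g V (g.app V c) (fun x y U hx hy hxy => by
      rw [show g.app V c = ev g V (g ⁻¹ᵁ V) le_rfl c by simp [ProjMor.ev, Scheme.Hom.app_eq_appLE], ev_comp, ev_comp]
      exact ev_congr hxy _ _ _)
    exact (hb c (by simp [ProjMor.ev, Scheme.Hom.app_eq_appLE])).trans
      (hb c' (by rw [e2]; simp [ProjMor.ev, Scheme.Hom.app_eq_appLE])).symm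
  · obtain ⟨a, ha⟩ := (hs _ (g.preimage_mono hV)).2 ((descι w θ).app V t)
    simp only at ha
    have h0 : defectApp w θ V (a • res L' (g.preimage_mono hV) s) = 0 :=
      (mem_range_descι w θ V _).1 ⟨t, ha.symm⟩
    have h1 : defectApp w θ V (res L' (g.preimage_mono hV) s) = 0 := by rw [defectApp_res w θ hV, hinv, map_zero]
    have hfun : ev p₁ (g ⁻¹ᵁ V) (p₂ ⁻¹ᵁ (g ⁻¹ᵁ V)) (preimage_eq w V).le a = ev p₂ (g ⁻¹ᵁ V) _ le_rfl a := by
      refine (C1Cap.isGen_eta p₂ (hs.res (g.preimage_mono hV)) _ le_rfl).1 ?_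
      change _ • res _ _ (eta p₂ L' _ (res L' (g.preimage_mono hV) s)) = _ • res _ _ (eta p₂ L' _ (res L' (g.preimage_mono hV) s))
      rw [res_self]
      have h2 := sub_eq_zero.1 h0
      have h3 := sub_eq_zero.1 h1
      rw [eta_smul, eta_smul, Scheme.Modules.Hom.app_smul, res_smul, h3] at h2
      refine Eq.trans ?_ (h2.trans (congrArg (· • _) ?_))
      · congr 1
      · simp [ProjMor.ev, Scheme.Hom.app_eq_appLE]
    obtain ⟨c, hc, -⟩ := existsUnique_desc_open' g V a (fun x y U hx hy hxy => by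
      have hU : U ≤ hZ.lift x y hxy ⁻¹ᵁ (p₂ ⁻¹ᵁ (g ⁻¹ᵁ V)) := by
        rw [← Scheme.Hom.comp_preimage, IsPullback.lift_snd]; exact hy
      have e := congrArg (ev (hZ.lift x y hxy) _ U hU) hfun
      rw [ev_comp, ev_comp] at e
      exact (ev_congr (IsPullback.lift_fst hZ x y hxy).symm hx _ a).trans
        (e.trans (ev_congr (IsPullback.lift_snd hZ x y hxy) _ hy a)))
    refine ⟨c, hinj ((hι c).trans (Eq.trans ?_ ha))⟩
    rw [show g.app V c = a by rw [← hc]; simp [ProjMor.ev, Scheme.Hom.app_eq_appLE]]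

include hZ hd in
/-- **descent from local invariant generators** -/
theorem exists_desc (hgen : ∀ y : Y, ∃ (D : Y.Opens) (s : Γ(L', g ⁻¹ᵁ D)), y ∈ D ∧ IsGen s ∧ defectApp w θ D s = 0) :
    ∃ L : Y.Modules, PicF.IsInvertible L ∧ Nonempty ((Scheme.Modules.pullback g).obj L ≅ L') := by
  choose D s hyD hs hinv using hgen
  choose l hl hls using fun y => exists_gen_desc w θ hZ hd (hs y) (hinv y)
  have hinvL : PicF.IsInvertible (desc w θ) := InvGen.isInvertible fun y => ⟨D y, l y, hyD y, hl y⟩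
  refine ⟨desc w θ, hinvL, ?_⟩
  let ε : (Scheme.Modules.pullback g).obj (desc w θ) ⟶ L' :=
    ((Scheme.Modules.pullbackPushforwardAdjunction g).homEquiv _ _).symm (descι w θ)
  have hε : ∀ y, ε.app (g ⁻¹ᵁ D y) (eta g (desc w θ) (D y) (l y)) = s y := fun y => by
    have e : (Scheme.Modules.pullbackPushforwardAdjunction g).unit.app (desc w θ) ≫
        (Scheme.Modules.pushforward g).map ε = descι w θ := by
      exact (Adjunction.homEquiv_unit _ _ _ ε).symm.trans (Equiv.apply_symm_apply _ _)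
    exact (congrArg (fun φ : desc w θ ⟶ _ => φ.app (D y) (l y)) e).trans (hls y)
  have hloc : ∀ (y : Y) (W : Y'.Opens), W ≤ g ⁻¹ᵁ D y → Function.Bijective (ε.app W) := fun y W hW => by
    refine (Function.Bijective.of_comp_iff (ε.app W) (C1Cap.isGen_eta g (hl y) W hW)).1 ?_
    have hcomp : (ε.app W) ∘ (fun c : Γ(Y', W) => c • res _ hW (eta g (desc w θ) (D y) (l y))) =
        fun c : Γ(Y', W) => c • res L' hW (s y) := funext fun c => by
      rw [Function.comp_apply, Scheme.Modules.Hom.app_smul, ← app_res, hε]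
    rw [hcomp]
    exact hs y W hW
  haveI : Epi ε := InvGen.epi_of_locally ε fun T t x hx =>
    ⟨T ⊓ g ⁻¹ᵁ D (g x), inf_le_left, ⟨hx, hyD (g x)⟩, (hloc (g x) _ inf_le_right).2 _⟩
  haveI : Mono ε := (QC.mono_iff_app_injective _).2 fun W a b hab => QC.section_eq_of_locally fun x hx => by
    refine ⟨W ⊓ g ⁻¹ᵁ D (g x), inf_le_left, ⟨hx, hyD (g x)⟩, (hloc (g x) _ inf_le_right).1 ?_⟩
    rw [← app_res ε, ← app_res ε, hab]
  haveI := isIso_of_mono_of_epi ε
  exact ⟨asIso ε⟩

end Groth.Agent.LBDesc
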