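import Groth.Agent.LBDesc.Points
import Groth.Agent.LBDesc.Coord

/-!
# Invariant generators exist near every point of the base
-/

set_option autoImplicit false
set_option backward.isDefEq.respectTransparency false
set_option backward.isDefEq.respectTransparency.types false
set_option linter.style.haveILetI false
set_option maxHeartbeats 1000000

universe u

open CategoryTheory CategoryTheory.Limits AlgebraicGeometry TopologicalSpace Opposite TensorProduct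
open Groth.Agent.QC (res resO res_res res_smul resO_resO res_self app_res)
open ProjMor (ev ev_res ev_resO eta eta_res eta_smul res_eta_smul)
open TMul (IsGen)

noncomputable section

namespace Groth.Agent.LBDesc

variable {Y Y' Z : Scheme.{u}} {g : Y' ⟶ Y} {p₁ p₂ : Z ⟶ Y'} (hZ : IsPullback p₁ p₂ g g)
  {L' : Y'.Modules} (θ : (Scheme.Modules.pullback p₁).obj L' ≅ (Scheme.Modules.pullback p₂).obj L')
  {ι : Type u} {O : ι → Y'.Opens} {t : ∀ i, Γ(L', O i)} {th : ∀ α β, Γ(Z, p₁ ⁻¹ᵁ O α ⊓ p₂ ⁻¹ᵁ O β)}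
  {A B : CommRingCat.{u}} [Algebra A B] {b : Spec B ⟶ Y'} {i : Spec A ⟶ Y} {a : ∀ α, Γ(Spec B, b ⁻¹ᵁ O α)} {m : B}

/-- the twisting function is a unit over the basic open -/
theorem isUnit_mAt [IsOpenImmersion i] {fA : A} {n : B} (hmn : m * n = algebraMap A B fA) {T : Scheme.{u}}
    (h : T ⟶ Spec B) (V : T.Opens) (hV' : V ≤ (h ≫ sp A B ≫ i) ⁻¹ᵁ (i ''ᵁ (PrimeSpectrum.basicOpen fA : (Spec A).Opens))) :
    IsUnit (mAt m h V) := by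
  let Dₐ : (Spec A).Opens := PrimeSpectrum.basicOpen fA
  have hle : V ≤ (h ≫ sp A B) ⁻¹ᵁ Dₐ := by
    rw [← Category.assoc, Scheme.Hom.comp_preimage] at hV'
    rwa [Scheme.Hom.preimage_image_eq] at hV'
  have hu : IsUnit (resO (Spec A) (le_top : Dₐ ≤ ⊤) ((Scheme.ΓSpecIso A).inv fA)) := by
    have hu := (Spec A).toRingedSpace.isUnit_res_basicOpen ((Scheme.ΓSpecIso A).inv fA)
    have eD : (Spec A).basicOpen ((Scheme.ΓSpecIso A).inv fA) = Dₐ := basicOpen_eq_of_affine fA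
    rw [← eD]
    exact hu
  have hu' := hu.map (ev (h ≫ sp A B) Dₐ V hle)
  rw [ev_resO] at hu'
  have e : ev (h ≫ sp A B) ⊤ V (hle.trans (Scheme.Hom.preimage_mono _ le_top)) ((Scheme.ΓSpecIso A).inv fA) =
      mAt m h V * ev h ⊤ V le_top ((Scheme.ΓSpecIso B).inv n) := by
    unfold mAt
    rw [← ev_comp h (sp A B) (le_top : (⊤ : (Spec B).Opens) ≤ _) le_top, ← map_mul]
    congr 1
    rw [← map_mul, hmn]
    refine Eq.trans ?_ (congrArg (fun φ : A ⟶ _ => φ.hom fA)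
      (Scheme.ΓSpecIso_inv_naturality (CommRingCat.ofHom (algebraMap A B)))).symm
    simp [ProjMor.ev, Scheme.Hom.appTop, Scheme.Hom.app_eq_appLE]
    rfl
  rw [e] at hu'
  exact isUnit_of_mul_isUnit_left hu'

lemma hcomp (hb : b ≫ g = sp A B ≫ i) {T : Scheme.{u}} (h : T ⟶ Spec B) (y : T ⟶ Y')
    (e : h ≫ sp A B ≫ i = y ≫ g) : (h ≫ b) ≫ g = y ≫ g := by
  rw [Category.assoc, hb]; exact e

variable (hb : b ≫ g = sp A B ≫ i)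

theorem key_trans [Mono i] (hcoc : Coc hZ th) (hkey : Key hZ th b (A := A) a m) {T : Scheme.{u}} (h₁ h₂ : T ⟶ Spec B)
    (y₁ y₂ : T ⟶ Y') (c₁ : h₁ ≫ sp A B ≫ i = y₁ ≫ g) (c₂ : h₂ ≫ sp A B ≫ i = y₂ ≫ g) (cy : y₁ ≫ g = y₂ ≫ g)
    (V : T.Opens) (α β γ δ : ι)
    (hx : V ≤ (h₁ ≫ b) ⁻¹ᵁ O α) (hx' : V ≤ (h₂ ≫ b) ⁻¹ᵁ O β) (hy : V ≤ y₁ ⁻¹ᵁ O γ) (hy' : V ≤ y₂ ⁻¹ᵁ O δ) :
    aAt b a h₁ V α hx * mAt m h₁ V * thp hZ th (h₁ ≫ b) y₁ (hcomp hb h₁ y₁ c₁) V α γ hx hy * thp hZ th y₁ y₂ cy V γ δ hy hy' =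
      aAt b a h₂ V β hx' * mAt m h₂ V * thp hZ th (h₂ ≫ b) y₂ (hcomp hb h₂ y₂ c₂) V β δ hx' hy' := by
  have hh : h₁ ≫ sp A B = h₂ ≫ sp A B := by
    rw [← cancel_mono i, Category.assoc, Category.assoc, c₁, c₂, cy]
  have e12 : (h₁ ≫ b) ≫ g = (h₂ ≫ b) ≫ g := by rw [hcomp hb h₁ y₁ c₁, hcomp hb h₂ y₂ c₂, cy]
  rw [_root_.mul_assoc, hcoc (h₁ ≫ b) y₁ y₂ (hcomp hb h₁ y₁ c₁) cy V α γ δ hx hy hy',
    ← hcoc (h₁ ≫ b) (h₂ ≫ b) y₂ e12 (hcomp hb h₂ y₂ c₂) V α β δ hx hx' hy', ← _root_.mul_assoc,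
    hkey h₁ h₂ hh e12 V α β hx hx']

variable (th m a) in
/-- the descended coefficient -/
def IsSigma (hZ : IsPullback p₁ p₂ g g) (hb : b ≫ g = sp A B ≫ i) (D : Y.Opens) (γ : ι) (σ : Γ(Y', O γ ⊓ g ⁻¹ᵁ D)) : Prop :=
  ∀ {T : Scheme.{u}} (h : T ⟶ Spec B) (y : T ⟶ Y') (c : h ≫ sp A B ≫ i = y ≫ g)
    (V : T.Opens) (hy : V ≤ y ⁻¹ᵁ (O γ ⊓ g ⁻¹ᵁ D)) (α : ι) (hx : V ≤ (h ≫ b) ⁻¹ᵁ O α),
    ev y (O γ ⊓ g ⁻¹ᵁ D) V hy σ = aAt b a h V α hx * mAt m h V *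
      thp hZ th (h ≫ b) y (hcomp hb h y c) V α γ hx (hy.trans (y.preimage_mono inf_le_left))

variable [Module.FaithfullyFlat A B] [IsOpenImmersion i] {D : Y.Opens} (hDi : D ≤ i.opensRange)

include hDi in
theorem exists_sigma (hO : ∀ x : Y', ∃ i, x ∈ O i) (hcoc : Coc hZ th) (ha : Coord hZ th b a)
    (hkey : Key hZ th b (A := A) a m) (hu1 : ∀ {T : Scheme.{u}} (x : T ⟶ Y') (V : T.Opens) (α : ι) (hx : V ≤ x ⁻¹ᵁ O α),
      thp hZ th x x rfl V α α hx hx = 1) (γ : ι) : ∃ σ, IsSigma th a m hZ hb D γ σ := by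
  let hQ := pullback.fst (sp A B ≫ i) g
  let qQ := pullback.snd (sp A B ≫ i) g
  let U' : ι → Y'.Opens := fun γ => O γ ⊓ g ⁻¹ᵁ D
  haveI := effectiveEpi_restrict (A := A) (B := B) i g (U' γ) (inf_le_right.trans (g.preimage_mono hDi))
  let c₀ : hQ ≫ sp A B ≫ i = qQ ≫ g := pullback.condition
  let M := fun α => qQ ⁻¹ᵁ U' γ ⊓ (hQ ≫ b) ⁻¹ᵁ O α
  let κ := fun α => aAt b a hQ (M α) α inf_le_right * mAt m hQ (M α) *
    thp hZ th (hQ ≫ b) qQ (hcomp hb hQ qQ c₀) (M α) α γ inf_le_right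
      (inf_le_left.trans (qQ.preimage_mono inf_le_left))
  obtain ⟨K, hK, -⟩ := (pullback (sp A B ≫ i) g).sheaf.existsUnique_gluing' M (qQ ⁻¹ᵁ U' γ)
    (fun _ => homOfLE inf_le_left) (fun z hz => Opens.mem_iSup.2 ((hO _).imp fun α hα => ⟨hz, hα⟩)) κ
    (fun α β => by
      suffices h : ∀ (V : (pullback (sp A B ≫ i) g).Opens) (h1 : V ≤ M α) (h2 : V ≤ M β),
          resO _ h1 (κ α) = resO _ h2 (κ β) from h _ inf_le_left inf_le_right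
      intro V h1 h2
      have hy : V ≤ qQ ⁻¹ᵁ O γ := h1.trans (inf_le_left.trans (qQ.preimage_mono inf_le_left))
      simp only [κ, map_mul, resO_thp]
      rw [show resO _ h1 (aAt b a hQ (M α) α inf_le_right) = aAt b a hQ V α (h1.trans inf_le_right) from ev_res _ _ _ _,
        show resO _ h2 (aAt b a hQ (M β) β inf_le_right) = aAt b a hQ V β (h2.trans inf_le_right) from ev_res _ _ _ _,
        show resO _ h1 (mAt m hQ (M α)) = mAt m hQ V from ev_res _ _ _ _,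
        show resO _ h2 (mAt m hQ (M β)) = mAt m hQ V from ev_res _ _ _ _,
        ← ha.2 hQ V β α (h2.trans inf_le_right) (h1.trans inf_le_right)]
      rw [← hcoc (hQ ≫ b) (hQ ≫ b) qQ rfl (hcomp hb hQ qQ c₀) V α β γ (h1.trans inf_le_right) (h2.trans inf_le_right) hy]
      ring)
  have hKpt : ∀ {T : Scheme.{u}} (z : T ⟶ pullback (sp A B ≫ i) g) (h : T ⟶ Spec B) (y : T ⟶ Y')
      (_ : z ≫ hQ = h) (_ : z ≫ qQ = y) (c : h ≫ sp A B ≫ i = y ≫ g) (V : T.Opens) (hzV : V ≤ z ⁻¹ᵁ (qQ ⁻¹ᵁ U' γ))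
      (hy : V ≤ y ⁻¹ᵁ O γ) (α : ι) (hx : V ≤ (h ≫ b) ⁻¹ᵁ O α),
      ev z (qQ ⁻¹ᵁ U' γ) V hzV K = aAt b a h V α hx * mAt m h V * thp hZ th (h ≫ b) y (hcomp hb h y c) V α γ hx hy := by
    intro T z h y e1 e2 c V hzV hy α hx
    subst e1 e2
    have hzM : V ≤ z ⁻¹ᵁ M α := by
      change V ≤ z ⁻¹ᵁ (qQ ⁻¹ᵁ U' γ ⊓ (hQ ≫ b) ⁻¹ᵁ O α)
      rw [Scheme.Hom.preimage_inf]
      refine le_inf hzV ?_
      rw [← Scheme.Hom.comp_preimage, ← Category.assoc]; exact hx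
    have e := congrArg (ev z (M α) V hzM) (hK α)
    refine ((ev_resO z hzM (inf_le_left : M α ≤ qQ ⁻¹ᵁ U' γ) K).symm.trans e).trans ?_
    simp only [κ, map_mul, ev_thp]
    refine congrArg₂ (· * ·) (congrArg₂ (· * ·) ?_ ?_) ?_
    · exact ev_comp z hQ _ hzM (a α)
    · exact ev_comp z hQ le_top hzM _
    · exact thp_congr hZ th (Category.assoc _ _ _).symm rfl _ _ V α γ _ _ _ _
  obtain ⟨σ, hσ, -⟩ := existsUnique_desc_open' qQ (U' γ) K (fun {T} z₁ z₂ V h1 h2 hz => by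
    refine T.sheaf.eq_of_locally_eq' (fun ab : ι × ι => V ⊓ ((z₁ ≫ hQ) ≫ b) ⁻¹ᵁ O ab.1 ⊓ ((z₂ ≫ hQ) ≫ b) ⁻¹ᵁ O ab.2) V
      (fun _ => homOfLE (inf_le_left.trans inf_le_left)) (fun x hx => ?_) _ _ fun ab => ?_
    · obtain ⟨α, hα⟩ := hO (((z₁ ≫ hQ) ≫ b).base x)
      obtain ⟨β, hβ⟩ := hO (((z₂ ≫ hQ) ≫ b).base x)
      exact Opens.mem_iSup.2 ⟨(α, β), ⟨hx, hα⟩, hβ⟩
    let V' := V ⊓ ((z₁ ≫ hQ) ≫ b) ⁻¹ᵁ O ab.1 ⊓ ((z₂ ≫ hQ) ≫ b) ⁻¹ᵁ O ab.2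
    change resO _ (inf_le_left.trans inf_le_left) (ev z₁ _ V h1 K) = resO _ (inf_le_left.trans inf_le_left) (ev z₂ _ V h2 K)
    rw [ev_res, ev_res]
    have hV' : V' ≤ V := inf_le_left.trans inf_le_left
    have hy1 : V' ≤ (z₁ ≫ qQ) ⁻¹ᵁ O γ := by
      rw [Scheme.Hom.comp_preimage]
      exact (hV'.trans h1).trans (z₁.preimage_mono (qQ.preimage_mono inf_le_left))
    have hy2 : V' ≤ (z₂ ≫ qQ) ⁻¹ᵁ O γ := hz ▸ hy1
    have c1 : (z₁ ≫ hQ) ≫ sp A B ≫ i = (z₁ ≫ qQ) ≫ g := by rw [Category.assoc, c₀, Category.assoc]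
    have c2 : (z₂ ≫ hQ) ≫ sp A B ≫ i = (z₂ ≫ qQ) ≫ g := by rw [Category.assoc, c₀, Category.assoc]
    rw [hKpt z₁ _ _ rfl rfl c1 V' (hV'.trans h1) hy1 ab.1 (inf_le_left.trans inf_le_right),
      hKpt z₂ _ _ rfl rfl c2 V' (hV'.trans h2) hy2 ab.2 inf_le_right]
    have e := key_trans hZ hb hcoc hkey (z₁ ≫ hQ) (z₂ ≫ hQ) (z₁ ≫ qQ) (z₂ ≫ qQ) c1 c2 (by rw [hz]) V' ab.1 ab.2 γ γ
      (inf_le_left.trans inf_le_right) inf_le_right hy1 hy2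
    rw [thp_congr hZ th rfl hz.symm (by rw [hz]) rfl V' γ γ hy1 hy2 hy1 hy1] at e
    have hone := hu1 (z₁ ≫ qQ) V' γ hy1
    rw [hone, _root_.mul_one] at e
    exact e)
  refine ⟨σ, fun {T} h y c V hy α hx => ?_⟩
  let z := pullback.lift h y c
  have hz : V ≤ z ⁻¹ᵁ (qQ ⁻¹ᵁ U' γ) := by rw [← Scheme.Hom.comp_preimage, pullback.lift_snd]; exact hy
  rw [← hKpt z h y (pullback.lift_fst _ _ _) (pullback.lift_snd _ _ _) c V hz (hy.trans (y.preimage_mono inf_le_left)) α hx,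
    ← hσ, ev_comp]
  exact ev_congr (pullback.lift_snd _ _ _).symm _ _ _

include hDi in
theorem sigma_invariant (hO : ∀ x : Y', ∃ i, x ∈ O i) (hcoc : Coc hZ th) (hkey : Key hZ th b (A := A) a m) {γ δ : ι}
    {σ : Γ(Y', O γ ⊓ g ⁻¹ᵁ D)} (hσγ : IsSigma th a m hZ hb D γ σ) {σ' : Γ(Y', O δ ⊓ g ⁻¹ᵁ D)}
    (hσδ : IsSigma th a m hZ hb D δ σ') {T : Scheme.{u}} (y₁ y₂ : T ⟶ Y') (cy : y₁ ≫ g = y₂ ≫ g) (V : T.Opens)
    (h1 : V ≤ y₁ ⁻¹ᵁ (O γ ⊓ g ⁻¹ᵁ D)) (h2 : V ≤ y₂ ⁻¹ᵁ (O δ ⊓ g ⁻¹ᵁ D)) :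
    ev y₁ (O γ ⊓ g ⁻¹ᵁ D) V h1 σ * thp hZ th y₁ y₂ cy V γ δ (h1.trans (y₁.preimage_mono inf_le_left))
        (h2.trans (y₂.preimage_mono inf_le_left)) = ev y₂ (O δ ⊓ g ⁻¹ᵁ D) V h2 σ' := by
  let U' : ι → Y'.Opens := fun γ => O γ ⊓ g ⁻¹ᵁ D
  have hVr : V ≤ (y₁ ≫ g) ⁻¹ᵁ i.opensRange :=
    h1.trans (y₁.preimage_mono (inf_le_right.trans (g.preimage_mono hDi)))
  haveI := effectiveEpi_restrict (A := A) (B := B) i (y₁ ≫ g) V hVr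
  let q := pullback.snd (sp A B ≫ i) (y₁ ≫ g)
  let h := pullback.fst (sp A B ≫ i) (y₁ ≫ g)
  obtain ⟨_, -, hu⟩ := existsUnique_desc_open' q V (ev q V (q ⁻¹ᵁ V) le_rfl (ev y₂ (U' δ) V h2 σ'))
    (fun a₁ a₂ P p1 p2 e => by
      exact (ev_comp a₁ q _ p1 _).trans ((ev_congr e _ _ _).trans (ev_comp a₂ q _ p2 _).symm))
  refine (hu _ ?_).trans (hu _ rfl).symm
  refine (pullback (sp A B ≫ i) (y₁ ≫ g)).sheaf.eq_of_locally_eq' (fun α => q ⁻¹ᵁ V ⊓ (h ≫ b) ⁻¹ᵁ O α) (q ⁻¹ᵁ V)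
    (fun _ => homOfLE inf_le_left) (fun z hz => Opens.mem_iSup.2 ((hO _).imp fun α hα => ⟨hz, hα⟩)) _ _ fun α => ?_
  let P := q ⁻¹ᵁ V ⊓ (h ≫ b) ⁻¹ᵁ O α
  change resO _ inf_le_left (ev q V _ _ _) = resO _ inf_le_left (ev q V _ _ _)
  rw [ev_res, ev_res, map_mul, ev_comp, ev_comp, ev_thp]
  have hc1 : h ≫ sp A B ≫ i = (q ≫ y₁) ≫ g := by rw [Category.assoc]; exact pullback.condition
  have hc2 : h ≫ sp A B ≫ i = (q ≫ y₂) ≫ g := by rw [Category.assoc, ← cy]; exact pullback.condition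
  have hP : P ≤ q ⁻¹ᵁ V := inf_le_left
  rw [hσγ h (q ≫ y₁) hc1 P (hP.trans (q.preimage_mono h1)) α inf_le_right,
    hσδ h (q ≫ y₂) hc2 P (hP.trans (q.preimage_mono h2)) α inf_le_right]
  exact key_trans hZ hb hcoc hkey h h _ _ hc1 hc2 (by simp only [Category.assoc]; exact congrArg (q ≫ ·) cy) P α α γ δ
    inf_le_right inf_le_right
    (show P ≤ (q ≫ y₁) ⁻¹ᵁ O γ by
      rw [Scheme.Hom.comp_preimage]; exact (hP.trans (q.preimage_mono h1)).trans (q.preimage_mono (y₁.preimage_mono inf_le_left)))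
    (show P ≤ (q ≫ y₂) ⁻¹ᵁ O δ by
      rw [Scheme.Hom.comp_preimage]; exact (hP.trans (q.preimage_mono h2)).trans (q.preimage_mono (y₂.preimage_mono inf_le_left)))

include hDi in
theorem isUnit_sigma (hO : ∀ x : Y', ∃ i, x ∈ O i) (hth : IsTh θ O t th) (ht : ∀ i, IsGen (t i)) (ha : Coord hZ th b a)
    (hmU : ∀ {T : Scheme.{u}} (h : T ⟶ Spec B) (V : T.Opens), V ≤ (h ≫ sp A B ≫ i) ⁻¹ᵁ D → IsUnit (mAt m h V))
    {γ : ι} {σ : Γ(Y', O γ ⊓ g ⁻¹ᵁ D)} (hσ : IsSigma th a m hZ hb D γ σ) : IsUnit σ := by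
  let hQ := pullback.fst (sp A B ≫ i) g
  let qQ := pullback.snd (sp A B ≫ i) g
  let U' : ι → Y'.Opens := fun γ => O γ ⊓ g ⁻¹ᵁ D
  haveI := effectiveEpi_restrict (A := A) (B := B) i g (U' γ) (inf_le_right.trans (g.preimage_mono hDi))
  have hqu : IsUnit (ev qQ (U' γ) (qQ ⁻¹ᵁ U' γ) le_rfl σ) := by
    refine (pullback (sp A B ≫ i) g).toRingedSpace.isUnit_of_isUnit_germ _ _ fun z hz => ?_
    obtain ⟨α, hα⟩ := hO ((hQ ≫ b).base z)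
    let P := qQ ⁻¹ᵁ U' γ ⊓ (hQ ≫ b) ⁻¹ᵁ O α
    have hu : IsUnit (ev qQ (U' γ) P inf_le_left σ) := by
      rw [hσ hQ qQ pullback.condition P inf_le_left α inf_le_right]
      refine (((ha.1 α).map _ : IsUnit (aAt b a hQ P α inf_le_right)).mul (hmU hQ P ?_)).mul (isUnit_thp hZ θ hth ht _ _ _ P α γ _ _)
      rw [show hQ ≫ sp A B ≫ i = qQ ≫ g from pullback.condition, Scheme.Hom.comp_preimage]
      exact inf_le_left.trans (qQ.preimage_mono inf_le_right)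
    rw [← ev_res qQ (le_refl (qQ ⁻¹ᵁ U' γ)) (inf_le_left : P ≤ qQ ⁻¹ᵁ U' γ)] at hu
    have hu' := hu.map ((pullback (sp A B ≫ i) g).presheaf.germ P z ⟨hz, hα⟩).hom
    rwa [show ((pullback (sp A B ≫ i) g).presheaf.germ P z ⟨hz, hα⟩) (resO _ inf_le_left (ev qQ (U' γ) _ le_rfl σ)) =
      (pullback (sp A B ≫ i) g).presheaf.germ (qQ ⁻¹ᵁ U' γ) z hz (ev qQ (U' γ) _ le_rfl σ) from
      TopCat.Presheaf.germ_res_apply _ _ _ _ _] at hu'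
  obtain ⟨τ, hτ, -⟩ := existsUnique_desc_open' qQ (U' γ) (hqu.unit⁻¹).val (fun {T} z₁ z₂ V h1 h2 e => by
    refine (hqu.map (ev z₁ _ V h1)).mul_left_cancel ?_
    rw [← map_mul, IsUnit.mul_val_inv, map_one,
      show ev z₁ _ V h1 (ev qQ (U' γ) (qQ ⁻¹ᵁ U' γ) le_rfl σ) = ev z₂ _ V h2 (ev qQ (U' γ) (qQ ⁻¹ᵁ U' γ) le_rfl σ) by
        rw [ev_comp, ev_comp]; exact ev_congr e _ _ _,
      ← map_mul, IsUnit.mul_val_inv, map_one])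
  obtain ⟨o, -, hu⟩ := existsUnique_desc_open' qQ (U' γ) 1 (fun p q V h1 h2 e => by rw [map_one, map_one])
  refine IsUnit.of_mul_eq_one τ ((hu _ ?_).trans (hu _ (map_one _)).symm)
  change ev qQ (U' γ) _ le_rfl (σ * τ) = 1
  rw [map_mul, hτ, IsUnit.mul_val_inv]

omit [IsOpenImmersion i] [Module.FaithfullyFlat A B] in
include hZ in
/-- **invariant generators exist locally on the base** -/
theorem exists_local_gen [Flat g] (hp : Pieces g) (hL' : PicF.IsInvertible L') (hO : ∀ x : Y', ∃ i, x ∈ O i)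
    (ht : ∀ i, IsGen (t i)) (hth : IsTh θ O t th) (hcoc : Coc hZ th) (y₀ : Y) :
    ∃ (D : Y.Opens) (s : Γ(L', g ⁻¹ᵁ D)), y₀ ∈ D ∧ IsGen s ∧ defectApp hZ.w θ D s = 0 := by
  obtain ⟨_, ⟨V₀, hV, rfl⟩, hyV, -⟩ := Y.isBasis_affineOpens.exists_subset_of_mem_open (Set.mem_univ y₀) isOpen_univ
  obtain ⟨B, _, b, _, hb, v, hv⟩ := exists_algebra_gen g hp hL' hV
  let i := IsAffineOpen.fromSpec hV
  obtain ⟨q₀, hq₀⟩ := (show y₀ ∈ Set.range i.base by rw [IsAffineOpen.range_fromSpec hV]; exact hyV)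
  obtain ⟨a, ha⟩ := exists_coord hZ θ b hth ht hcoc v hv
  obtain ⟨fA, hfA, m, n, hmn, hkey⟩ := exists_key hZ hb hO hcoc ha q₀
  let Dₐ : (Spec Γ(Y, V₀)).Opens := PrimeSpectrum.basicOpen fA
  let D : Y.Opens := i ''ᵁ Dₐ
  have hDi : D ≤ i.opensRange := i.image_le_opensRange _
  have hu1 : ∀ {T : Scheme.{u}} (x : T ⟶ Y') (V : T.Opens) (α : ι) (hx : V ≤ x ⁻¹ᵁ O α),
      thp hZ th x x rfl V α α hx hx = 1 := fun x V α hx => by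
    refine (isUnit_thp hZ θ hth ht x x rfl V α α hx hx).mul_left_cancel ?_
    rw [_root_.mul_one]
    exact hcoc x x x rfl rfl V α α α hx hx hx
  choose σ hσ using exists_sigma hZ hb hDi hO hcoc ha hkey hu1
  have hσinv := fun {T : Scheme.{u}} (y₁ y₂ : T ⟶ Y') (cy : y₁ ≫ g = y₂ ≫ g) (V : T.Opens) (γ δ : ι) =>
    sigma_invariant hZ hb hDi hO hcoc hkey (hσ γ) (hσ δ) y₁ y₂ cy V
  have hσu : ∀ γ, IsUnit (σ γ) := fun γ =>
    isUnit_sigma hZ θ hb hDi hO hth ht ha (fun h V hV' => isUnit_mAt hmn h V hV') (hσ γ)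
  let U' : ι → Y'.Opens := fun γ => O γ ⊓ g ⁻¹ᵁ D
  let sγ : ∀ γ, Γ(L', U' γ) := fun γ => σ γ • res L' inf_le_left (t γ)
  obtain ⟨(s : Γ(L', g ⁻¹ᵁ D)), hs, -⟩ := TopCat.Sheaf.existsUnique_gluing' (Groth.Agent.QC.abSheaf L') U' (g ⁻¹ᵁ D)
    (fun _ => homOfLE inf_le_right) (fun z hz => Opens.mem_iSup.2 ((hO z).imp fun γ hγ => ⟨hγ, hz⟩)) sγ (fun γ δ => by
      have hγδ : U' γ ⊓ U' δ ≤ O γ ⊓ O δ := inf_le_inf inf_le_left inf_le_left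
      obtain ⟨c, hc⟩ := (ht δ (O γ ⊓ O δ) inf_le_right).2 (res L' inf_le_left (t γ))
      simp only at hc
      have key : res L' inf_le_left (sγ γ) = res L' inf_le_right (sγ δ) := by
        have e1 := congrArg (res L' hγδ) hc
        simp only [res_smul, res_res] at e1
        simp only [sγ, res_smul]
        erw [res_res, res_res]
        rw [← e1, smul_smul]
        congr 1
        have hle : U' γ ⊓ U' δ ≤ (𝟙 Y' : Y' ⟶ Y') ⁻¹ᵁ (U' γ ⊓ U' δ) := le_rfl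
        have e2 := hσinv (𝟙 Y') (𝟙 Y') rfl (U' γ ⊓ U' δ) γ δ (hle.trans (Scheme.Hom.preimage_mono _ inf_le_left))
          (hle.trans (Scheme.Hom.preimage_mono _ inf_le_right))
        rw [thp_diag hZ θ hth ht hcoc (𝟙 Y') (U' γ ⊓ U' δ) δ γ (inf_le_right.trans inf_le_left)
          (inf_le_left.trans inf_le_left) c hc.symm] at e2
        simp only [ProjMor.ev, Scheme.Hom.appLE, Scheme.Hom.id_app, Category.id_comp] at e2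
        exact e2
      exact key)
  refine ⟨i ''ᵁ Dₐ, s, ⟨q₀, hfA, hq₀⟩, UfdExtend.isGen_of_locally fun z hz => ?_, ?_⟩
  · obtain ⟨γ, hγ⟩ := hO z
    refine ⟨U' γ, inf_le_right, ⟨hγ, hz⟩, ?_⟩
    rw [show res L' (inf_le_right : U' γ ≤ g ⁻¹ᵁ D) s = sγ γ from hs γ]
    exact W7Hull.isGen_smul ((ht γ).res _) (hσu γ)
  · refine QC.section_eq_of_locally fun z hz => ?_
    obtain ⟨γ, hγ⟩ := hO (p₁.base z)
    obtain ⟨δ, hδ⟩ := hO (p₂.base z)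
    have hzD : p₁.base z ∈ g ⁻¹ᵁ D := (preimage_eq hZ.w D).le hz
    let P : Z.Opens := p₁ ⁻¹ᵁ U' γ ⊓ p₂ ⁻¹ᵁ U' δ
    have hP1 : P ≤ p₁ ⁻¹ᵁ (g ⁻¹ᵁ D) := inf_le_left.trans (p₁.preimage_mono inf_le_right)
    have hP2 : P ≤ p₂ ⁻¹ᵁ (g ⁻¹ᵁ D) := inf_le_right.trans (p₂.preimage_mono inf_le_right)
    refine ⟨P, hP2, ⟨⟨hγ, hzD⟩, hδ, hz⟩, ?_⟩
    rw [map_zero, defectApp, map_sub, sub_eq_zero, res_res]
    rw [← res_res _ (inf_le_left : P ≤ p₁ ⁻¹ᵁ U' γ) (p₁.preimage_mono (inf_le_right : U' γ ≤ g ⁻¹ᵁ D)), app_res,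
      eta_res p₁ L' (inf_le_right : U' γ ≤ g ⁻¹ᵁ D), show res L' (inf_le_right : U' γ ≤ g ⁻¹ᵁ D) s = sγ γ from hs γ,
      ← res_res _ (inf_le_right : P ≤ p₂ ⁻¹ᵁ U' δ) (p₂.preimage_mono (inf_le_right : U' δ ≤ g ⁻¹ᵁ D)),
      eta_res p₂ L' (inf_le_right : U' δ ≤ g ⁻¹ᵁ D), show res L' (inf_le_right : U' δ ≤ g ⁻¹ᵁ D) s = sγ δ from hs δ]
    simp only [sγ, eta_smul, Scheme.Modules.Hom.app_smul, res_smul]
    rw [← eta_res p₁ L' (inf_le_left : U' γ ≤ O γ), ← app_res, res_res,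
      ← eta_res p₂ L' (inf_le_left : U' δ ≤ O δ), res_res]
    have hPP : P ≤ p₁ ⁻¹ᵁ O γ ⊓ p₂ ⁻¹ᵁ O δ :=
      inf_le_inf (p₁.preimage_mono inf_le_left) (p₂.preimage_mono inf_le_left)
    have e1 := congrArg (res _ hPP) (hth γ δ)
    rw [res_smul, res_res, res_res] at e1
    rw [e1, smul_smul]
    congr 1
    have e2 := hσinv p₁ p₂ hZ.w P γ δ inf_le_left inf_le_right
    have e3 : thp hZ th p₁ p₂ hZ.w P γ δ (hPP.trans inf_le_left) (hPP.trans inf_le_right) = resO Z hPP (th γ δ) := by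
      rw [thp, ev_congr (show hZ.lift p₁ p₂ hZ.w = 𝟙 Z from hZ.hom_ext (by simp) (by simp)) _
        (show P ≤ (𝟙 Z : Z ⟶ Z) ⁻¹ᵁ (p₁ ⁻¹ᵁ O γ ⊓ p₂ ⁻¹ᵁ O δ) from hPP)]
      simp [ProjMor.ev, Scheme.Hom.appLE, Groth.Agent.QC.resO]
    rw [e3] at e2
    have er : ∀ (q : Z ⟶ Y') (U : Y'.Opens) (h : P ≤ q ⁻¹ᵁ U) (x : Γ(Y', U)),
        ev q U P h x = resO Z h (q.app U x) := fun q U h x => by
      simp [ProjMor.ev, Groth.Agent.QC.resO, Scheme.Hom.app_eq_appLE, ← CommRingCat.comp_apply, Scheme.Hom.appLE_map]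
    rw [er, er] at e2
    exact e2

end Groth.Agent.LBDesc
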