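import Groth.Agent.LBDesc.Kernel

/-!
# Descent data of invertible modules in coordinates
-/

set_option autoImplicit false
set_option backward.isDefEq.respectTransparency false
set_option backward.isDefEq.respectTransparency.types false
set_option linter.style.haveILetI false
set_option maxHeartbeats 1000000

universe u

open CategoryTheory CategoryTheory.Limits AlgebraicGeometry TopologicalSpace Opposite
open Groth.Agent.QC (res resO res_res res_smul resO_resO res_self app_res)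
open ProjMor (ev ev_res ev_resO eta eta_res eta_smul res_eta_smul)
open TMul (IsGen)

noncomputable section

namespace Groth.Agent.LBDesc

variable {Y Y' Z : Scheme.{u}} {g : Y' ⟶ Y} {p₁ p₂ : Z ⟶ Y'} (hZ : IsPullback p₁ p₂ g g)
  {L' : Y'.Modules} (θ : (Scheme.Modules.pullback p₁).obj L' ≅ (Scheme.Modules.pullback p₂).obj L')
  {ι : Type u} (O : ι → Y'.Opens) (t : ∀ i, Γ(L', O i))

/-- the coordinates of an isomorphism of the two inverse images -/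
def IsTh (th : ∀ α β, Γ(Z, p₁ ⁻¹ᵁ O α ⊓ p₂ ⁻¹ᵁ O β)) : Prop :=
  ∀ α β, res _ (inf_le_left : p₁ ⁻¹ᵁ O α ⊓ p₂ ⁻¹ᵁ O β ≤ p₁ ⁻¹ᵁ O α) (θ.hom.app _ (eta p₁ L' (O α) (t α))) =
    th α β • res _ inf_le_right (eta p₂ L' (O β) (t β))

theorem exists_isTh (ht : ∀ i, IsGen (t i)) : ∃ th, IsTh θ O t th := by
  choose th hth using fun α β => ((C1Cap.isGen_eta p₂ (ht β)) (p₁ ⁻¹ᵁ O α ⊓ p₂ ⁻¹ᵁ O β) inf_le_right).2
    (res _ inf_le_left (θ.hom.app _ (eta p₁ L' (O α) (t α))))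
  exact ⟨th, fun α β => (hth α β).symm⟩

variable {O t} (th : ∀ α β, Γ(Z, p₁ ⁻¹ᵁ O α ⊓ p₂ ⁻¹ᵁ O β))

/-- the coordinates at a pair of points -/
def thp {T : Scheme.{u}} (x y : T ⟶ Y') (e : x ≫ g = y ≫ g) (V : T.Opens) (α β : ι) (hx : V ≤ x ⁻¹ᵁ O α)
    (hy : V ≤ y ⁻¹ᵁ O β) : Γ(T, V) :=
  ev (hZ.lift x y e) (p₁ ⁻¹ᵁ O α ⊓ p₂ ⁻¹ᵁ O β) V (by
    rw [Scheme.Hom.preimage_inf, ← Scheme.Hom.comp_preimage, ← Scheme.Hom.comp_preimage, IsPullback.lift_fst,
      IsPullback.lift_snd]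
    exact le_inf hx hy) (th α β)

lemma resO_thp {T : Scheme.{u}} (x y : T ⟶ Y') (e : x ≫ g = y ≫ g) {V V' : T.Opens} (i : V' ≤ V) (α β : ι)
    (hx : V ≤ x ⁻¹ᵁ O α) (hy : V ≤ y ⁻¹ᵁ O β) :
    resO T i (thp hZ th x y e V α β hx hy) = thp hZ th x y e V' α β (i.trans hx) (i.trans hy) := ev_res _ _ _ _

lemma thp_congr {T : Scheme.{u}} {x y x' y' : T ⟶ Y'} (ex : x = x') (ey : y = y') (e : x ≫ g = y ≫ g)
    (e' : x' ≫ g = y' ≫ g) (V : T.Opens) (α β : ι) (hx : V ≤ x ⁻¹ᵁ O α) (hy : V ≤ y ⁻¹ᵁ O β)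
    (hx' : V ≤ x' ⁻¹ᵁ O α) (hy' : V ≤ y' ⁻¹ᵁ O β) :
    thp hZ th x y e V α β hx hy = thp hZ th x' y' e' V α β hx' hy' := by
  subst ex ey; rfl

lemma ev_thp {T T' : Scheme.{u}} (k : T' ⟶ T) (x y : T ⟶ Y') (e : x ≫ g = y ≫ g) (V : T.Opens) (V' : T'.Opens)
    (h : V' ≤ k ⁻¹ᵁ V) (α β : ι) (hx : V ≤ x ⁻¹ᵁ O α) (hy : V ≤ y ⁻¹ᵁ O β) :
    ev k V V' h (thp hZ th x y e V α β hx hy) =
      thp hZ th (k ≫ x) (k ≫ y) (by rw [Category.assoc, Category.assoc, e]) V' α β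
        (by rw [Scheme.Hom.comp_preimage]; exact h.trans (k.preimage_mono hx))
        (by rw [Scheme.Hom.comp_preimage]; exact h.trans (k.preimage_mono hy)) := by
  rw [thp, ev_comp]
  exact ev_congr (hZ.hom_ext (by simp) (by simp)) _ _ _

/-- the cocycle condition in coordinates -/
def Coc : Prop := ∀ {T : Scheme.{u}} (x y z : T ⟶ Y') (hxy : x ≫ g = y ≫ g) (hyz : y ≫ g = z ≫ g)
  (V : T.Opens) (α β γ : ι) (hx : V ≤ x ⁻¹ᵁ O α) (hy : V ≤ y ⁻¹ᵁ O β) (hz : V ≤ z ⁻¹ᵁ O γ),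
  thp hZ th x y hxy V α β hx hy * thp hZ th y z hyz V β γ hy hz = thp hZ th x z (hxy.trans hyz) V α γ hx hz

variable {th} (hth : IsTh θ O t th) (ht : ∀ i, IsGen (t i))

include hth ht in
theorem isUnit_th (α β : ι) : IsUnit (th α β) := by
  refine W7Hull.isUnit_coeff ((C1Cap.isGen_eta p₂ (ht β)).res inf_le_right) ?_
  rw [← hth]
  exact (MeroLib.IsGen.map_iso θ.hom (C1Cap.isGen_eta p₁ (ht α))).res _

include hth ht in
theorem isUnit_thp {T : Scheme.{u}} (x y : T ⟶ Y') (e : x ≫ g = y ≫ g) (V : T.Opens) (α β : ι)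
    (hx : V ≤ x ⁻¹ᵁ O α) (hy : V ≤ y ⁻¹ᵁ O β) : IsUnit (thp hZ th x y e V α β hx hy) :=
  (isUnit_th θ hth ht α β).map _

include hth ht in
/-- change of the first generator -/
theorem thp_left {T : Scheme.{u}} (x y : T ⟶ Y') (e : x ≫ g = y ≫ g) (V : T.Opens) (α α' β : ι)
    (hx : V ≤ x ⁻¹ᵁ O α) (hx' : V ≤ x ⁻¹ᵁ O α') (hy : V ≤ y ⁻¹ᵁ O β) (c : Γ(Y', O α' ⊓ O α))
    (hc : res L' inf_le_left (t α') = c • res L' inf_le_right (t α)) :
    thp hZ th x y e V α' β hx' hy = ev x (O α' ⊓ O α) V (by rw [Scheme.Hom.preimage_inf]; exact le_inf hx' hx) c *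
      thp hZ th x y e V α β hx hy := by
  let W : Z.Opens := p₁ ⁻¹ᵁ (O α' ⊓ O α) ⊓ p₂ ⁻¹ᵁ O β
  have hW1 : W ≤ p₁ ⁻¹ᵁ O α' ⊓ p₂ ⁻¹ᵁ O β := inf_le_inf (p₁.preimage_mono inf_le_left) le_rfl
  have hW2 : W ≤ p₁ ⁻¹ᵁ O α ⊓ p₂ ⁻¹ᵁ O β := inf_le_inf (p₁.preimage_mono inf_le_right) le_rfl
  have key : resO Z hW1 (th α' β) = ev p₁ _ W inf_le_left c * resO Z hW2 (th α β) := by
    refine (C1Cap.isGen_eta p₂ (ht β) W inf_le_right).1 ?_
    have e1 := congrArg (res _ hW1) (hth α' β)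
    have e2 := congrArg (res _ hW2) (hth α β)
    simp only [res_smul, res_res] at e1 e2
    change _ • res _ _ (eta p₂ L' (O β) (t β)) = _ • res _ _ (eta p₂ L' (O β) (t β))
    rw [mul_smul, ← e1, ← e2, ← res_res _ inf_le_left (p₁.preimage_mono (inf_le_left : O α' ⊓ O α ≤ O α')),
      ← res_res _ (inf_le_left : W ≤ p₁ ⁻¹ᵁ (O α' ⊓ O α)) (p₁.preimage_mono (inf_le_right : O α' ⊓ O α ≤ O α))]
    simp only [app_res]
    rw [eta_res p₁ L' (inf_le_left : O α' ⊓ O α ≤ O α'), eta_res p₁ L' (inf_le_right : O α' ⊓ O α ≤ O α), hc,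
      eta_smul, res_smul, Scheme.Modules.Hom.app_smul]
    congr 1

  have hV : V ≤ hZ.lift x y e ⁻¹ᵁ W := by
    rw [Scheme.Hom.preimage_inf, ← Scheme.Hom.comp_preimage, ← Scheme.Hom.comp_preimage, IsPullback.lift_fst,
      IsPullback.lift_snd, Scheme.Hom.preimage_inf]
    exact le_inf (le_inf hx' hx) hy
  have e3 := congrArg (ev (hZ.lift x y e) W V hV) key
  rw [map_mul, ev_resO, ev_resO, ev_comp] at e3
  refine e3.trans (congrArg (· * _) ?_)
  exact ev_congr (IsPullback.lift_fst hZ x y e) _ _ _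

include hth ht in
/-- on the diagonal the coordinates are the transition functions -/
theorem thp_diag (hcoc : Coc hZ th) {T : Scheme.{u}} (x : T ⟶ Y') (V : T.Opens) (α α' : ι)
    (hx : V ≤ x ⁻¹ᵁ O α) (hx' : V ≤ x ⁻¹ᵁ O α') (c : Γ(Y', O α' ⊓ O α))
    (hc : res L' inf_le_left (t α') = c • res L' inf_le_right (t α)) :
    thp hZ th x x rfl V α' α hx' hx = ev x (O α' ⊓ O α) V (by rw [Scheme.Hom.preimage_inf]; exact le_inf hx' hx) c := by
  refine (isUnit_thp hZ θ hth ht x x rfl V α α hx hx).mul_right_cancel ?_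
  rw [hcoc x x x rfl rfl V α' α α hx' hx hx]
  exact thp_left hZ θ hth ht x x rfl V α α' α hx hx' hx c hc

lemma effEpi_of {U V : Scheme.{u}} (f : U ⟶ V) [Flat f] [Surjective f] [QuasiCompact f] : EffectiveEpi f :=
  inferInstance

/-- effective epimorphisms: base changes of a faithfully flat affine map, over its image -/
theorem effectiveEpi_restrict {A B : CommRingCat.{u}} [Algebra A B] [Module.FaithfullyFlat A B] (i : Spec A ⟶ Y)
    [IsOpenImmersion i] {T : Scheme.{u}} (k : T ⟶ Y) (W : T.Opens) (hW : W ≤ k ⁻¹ᵁ i.opensRange) :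
    EffectiveEpi (pullback.snd (sp A B ≫ i) k ∣_ W) := by
  haveI : Surjective (sp A B) := ⟨PrimeSpectrum.comap_surjective_of_faithfullyFlat⟩
  haveI : Flat (sp A B) := HasRingHomProperty.Spec_iff.2 (RingHom.flat_algebraMap_iff.2 inferInstance)
  let j := pullback.snd i k
  let q₁ := (pullbackRightPullbackFstIso i k (sp A B)).inv ≫ pullback.snd (sp A B) (pullback.fst i k)
  have hq : pullback.snd (sp A B ≫ i) k = q₁ ≫ j := by
    rw [Category.assoc, Iso.eq_inv_comp, pullbackRightPullbackFstIso_hom_snd]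
  rw [hq, morphismRestrict_comp]
  haveI : IsIso (j ∣_ W) := by
    haveI : IsOpenImmersion (j ∣_ W) := IsZariskiLocalAtTarget.restrict (P := @IsOpenImmersion) inferInstance W
    haveI : Surjective (j ∣_ W) := ⟨fun z => by
      have hz : (z.1 : T) ∈ Set.range j.base := by
        rw [Scheme.Pullback.range_snd]
        exact hW z.2
      obtain ⟨z', hz'⟩ := hz
      refine ⟨⟨z', by change j.base z' ∈ W; rw [hz']; exact z.2⟩, Subtype.ext ?_⟩
      simpa using hz'⟩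
    haveI : Epi (j ∣_ W).base := (TopCat.epi_iff_surjective _).2 (Scheme.Hom.surjective _)
    exact IsOpenImmersion.isIso _
  haveI : Flat (q₁ ∣_ (j ⁻¹ᵁ W)) := IsZariskiLocalAtTarget.restrict (P := @Flat) inferInstance _
  haveI : Surjective (q₁ ∣_ (j ⁻¹ᵁ W)) := IsZariskiLocalAtTarget.restrict (P := @Surjective) inferInstance _
  haveI : QuasiCompact (q₁ ∣_ (j ⁻¹ᵁ W)) := IsZariskiLocalAtTarget.restrict (P := @QuasiCompact) inferInstance _
  haveI : Flat (q₁ ∣_ (j ⁻¹ᵁ W) ≫ j ∣_ W) := MorphismProperty.comp_mem @Flat _ _ ‹_› inferInstance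
  haveI : Surjective (q₁ ∣_ (j ⁻¹ᵁ W) ≫ j ∣_ W) := MorphismProperty.comp_mem @Surjective _ _ ‹_› inferInstance
  haveI : QuasiCompact (q₁ ∣_ (j ⁻¹ᵁ W) ≫ j ∣_ W) := MorphismProperty.comp_mem @QuasiCompact _ _ ‹_› inferInstance
  exact effEpi_of _

end Groth.Agent.LBDesc
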