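import Groth.Agent.LBDesc.Ring
import Groth.Agent.LBDesc.Func
import Groth.Agent.W7See.Main
import Groth.Agent.W7Cube.GroupBase
import Groth.Agent.C1Cap.PullGen

/-!
# Invertible modules trivial after a faithfully flat change of the base
-/

set_option autoImplicit false
set_option backward.isDefEq.respectTransparency false
set_option backward.isDefEq.respectTransparency.types false
set_option linter.style.haveILetI false
set_option maxHeartbeats 1000000

universe u

open CategoryTheory CategoryTheory.Limits AlgebraicGeometry TopologicalSpace Opposite TensorProduct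
open Groth.Agent.QC (res resO res_res res_smul resO_resO res_self)
open ProjMor (ev ev_res ev_resO eta eta_res eta_smul res_eta_smul)
open TMul (IsGen)

noncomputable section

namespace Groth.Agent.LBDesc

section Core

variable {A B : CommRingCat.{u}} [Algebra A B] {X : Scheme.{u}} (f : X ⟶ Spec A)

/-- the structure map of an algebra -/
abbrev sp (A : CommRingCat.{u}) (R : Type u) [CommRing R] [Algebra A R] : Spec (CommRingCat.of R) ⟶ Spec A :=
  Spec.map (CommRingCat.ofHom (algebraMap A R))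

/-- functions of the base are functions on the base change -/
def Bij : Prop := ∀ (R : Type u) [CommRing R] [Algebra A R] [Module.Flat A R],
  Function.Bijective (pullback.snd f (sp A R)).appTop

/-- base change of a point -/
abbrev gmap {R : Type u} [CommRing R] [Algebra A R] {R' : Type u} [CommRing R'] [Algebra A R'] (φ : R →ₐ[A] R') :
    pullback f (sp A R') ⟶ pullback f (sp A R) :=
  pullback.map f (sp A R') f (sp A R) (𝟙 X) (Spec.map (CommRingCat.ofHom φ.toRingHom)) (𝟙 _) (by simp)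
    (by simp [sp, ← Spec.map_comp, ← CommRingCat.ofHom_comp])

lemma gmap_fst {R R' : Type u} [CommRing R] [Algebra A R] [CommRing R'] [Algebra A R'] (φ : R →ₐ[A] R') :
    gmap f φ ≫ pullback.fst _ _ = pullback.fst _ _ := by simp

lemma gmap_comp {R R' R'' : Type u} [CommRing R] [Algebra A R] [CommRing R'] [Algebra A R'] [CommRing R'']
    [Algebra A R''] (φ : R →ₐ[A] R') (ψ : R' →ₐ[A] R'') : gmap f ψ ≫ gmap f φ = gmap f (ψ.comp φ) := by
  refine pullback.hom_ext (by simp) ?_
  simp [← Spec.map_comp, ← CommRingCat.ofHom_comp, AlgHom.comp_toRingHom]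

/-- a scalar on the base change -/
def scal (R : Type u) [CommRing R] [Algebra A R] (V : (pullback f (sp A R)).Opens) (r : R) :
    Γ(pullback f (sp A R), V) :=
  resO _ le_top ((pullback.snd f (sp A R)).appTop ((Scheme.ΓSpecIso (CommRingCat.of R)).inv r))

lemma scal_mul (R : Type u) [CommRing R] [Algebra A R] (V : (pullback f (sp A R)).Opens) (r r' : R) :
    scal f R V (r * r') = scal f R V r * scal f R V r' := by simp [scal, resO]

lemma scal_one (R : Type u) [CommRing R] [Algebra A R] (V : (pullback f (sp A R)).Opens) :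
    scal f R V 1 = 1 := by simp [scal, resO]

lemma ev_scal {R R' : Type u} [CommRing R] [Algebra A R] [CommRing R'] [Algebra A R'] (φ : R →ₐ[A] R')
    {V : (pullback f (sp A R)).Opens} {V' : (pullback f (sp A R')).Opens} (h : V' ≤ gmap f φ ⁻¹ᵁ V) (r : R) :
    ev (gmap f φ) V V' h (scal f R V r) = scal f R' V' (φ r) := by
  have e : (Scheme.ΓSpecIso (CommRingCat.of R')).inv (φ r) =
      (Spec.map (CommRingCat.ofHom φ.toRingHom)).appTop ((Scheme.ΓSpecIso (CommRingCat.of R)).inv r) :=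
    congrArg (fun h : CommRingCat.of R ⟶ _ => h.hom r) (Scheme.ΓSpecIso_inv_naturality (CommRingCat.ofHom φ.toRingHom))
  unfold scal
  rw [ev_resO, e, ← CommRingCat.comp_apply (Spec.map _).appTop, ← Scheme.Hom.comp_appTop]
  rw [show pullback.snd f (sp A R') ≫ Spec.map (CommRingCat.ofHom φ.toRingHom) = gmap f φ ≫ pullback.snd _ _ by simp]
  rw [Scheme.Hom.comp_appTop, CommRingCat.comp_apply]
  exact ((ev_res (gmap f φ) (D := ⊤) (V := ⊤) le_top le_top _).symm.trans (by
    simp only [ProjMor.ev, Scheme.Hom.appTop, Scheme.Hom.app_eq_appLE]; rfl))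

lemma ev_congr {Y Z : Scheme.{u}} {p p' : Z ⟶ Y} (e : p = p') {D : Y.Opens} {V : Z.Opens} (h : V ≤ p ⁻¹ᵁ D)
    (h' : V ≤ p' ⁻¹ᵁ D) (c : Γ(Y, D)) : ev p D V h c = ev p' D V h' c := by subst e; rfl

variable (L : X.Modules) {ι : Type u} (U : ι → X.Opens) (t : ∀ i, Γ(L, U i))
  (a : ∀ i, Γ(pullback f (sp A B), pullback.fst f (sp A B) ⁻¹ᵁ U i))

/-- the coefficient at a point -/
def pw {R : Type u} [CommRing R] [Algebra A R] (φ : B →ₐ[A] R) (i : ι) :
    Γ(pullback f (sp A R), pullback.fst f (sp A R) ⁻¹ᵁ U i) :=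
  ev (gmap f φ) (pullback.fst f (sp A B) ⁻¹ᵁ U i) (pullback.fst f (sp A R) ⁻¹ᵁ U i)
    (le_of_eq (by rw [← Scheme.Hom.comp_preimage, gmap_fst])) (a i)

/-- the cocycle relation -/
def Rel (R : Type u) [CommRing R] [Algebra A R] (φ ψ : B →ₐ[A] R) (r : R) : Prop :=
  ∀ i, pw f U a φ i * scal f R _ r = pw f U a ψ i

variable {f} {U} {a}

theorem Rel.map {R R' : Type u} [CommRing R] [Algebra A R] [CommRing R'] [Algebra A R'] {φ ψ : B →ₐ[A] R} {r : R}
    (h : Rel f U a R φ ψ r) (θ : R →ₐ[A] R') : Rel f U a R' (θ.comp φ) (θ.comp ψ) (θ r) := by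
  intro i
  have hle : pullback.fst f (sp A R') ⁻¹ᵁ U i ≤ gmap f θ ⁻¹ᵁ (pullback.fst f (sp A R) ⁻¹ᵁ U i) :=
    le_of_eq (by rw [← Scheme.Hom.comp_preimage, gmap_fst])
  have hp : ∀ χ : B →ₐ[A] R, ev (gmap f θ) _ _ hle (pw f U a χ i) = pw f U a (θ.comp χ) i := fun χ => by
    rw [pw, pw, ev_comp]
    simp only [gmap_comp]
  have e := congrArg (ev (gmap f θ) _ _ hle) (h i)
  rwa [map_mul, hp, hp, ev_scal] at e

variable (ha : ∀ i, IsUnit (a i))

include ha in
lemma isUnit_pw {R : Type u} [CommRing R] [Algebra A R] (φ : B →ₐ[A] R) (i : ι) : IsUnit (pw f U a φ i) :=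
  (ha i).map _

variable (hU : ∀ x : X, ∃ i, x ∈ U i)
  (hc : ∀ i j, ∃ c : Γ(X, U i ⊓ U j), resO _ (Scheme.Hom.preimage_mono _ inf_le_right) (a j) *
      ev (pullback.fst f (sp A B)) _ _ le_rfl c = resO _ (Scheme.Hom.preimage_mono _ inf_le_left) (a i))
  (hb : Bij f)

include ha hU hb in
theorem Rel.unique {R : Type u} [CommRing R] [Algebra A R] [Module.Flat A R] {φ ψ : B →ₐ[A] R} {r r' : R}
    (h : Rel f U a R φ ψ r) (h' : Rel f U a R φ ψ r') : r = r' := by
  refine (ConcreteCategory.bijective_of_isIso (Scheme.ΓSpecIso (CommRingCat.of R)).inv).1 ((hb R).1 ?_)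
  refine (pullback f (sp A R)).sheaf.eq_of_locally_eq' (fun i => pullback.fst f (sp A R) ⁻¹ᵁ U i) ⊤
    (fun i => homOfLE le_top) (fun x _ => Opens.mem_iSup.2 (hU _)) _ _ fun i => ?_
  exact (isUnit_pw ha φ i).mul_left_cancel ((h i).trans (h' i).symm)

include ha hU hb in
theorem Rel.one {R : Type u} [CommRing R] [Algebra A R] (φ : B →ₐ[A] R) : Rel f U a R φ φ 1 := fun i => by
  rw [scal_one, _root_.mul_one]

theorem Rel.trans {R : Type u} [CommRing R] [Algebra A R] {φ ψ χ : B →ₐ[A] R} {r r' : R}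
    (h : Rel f U a R φ ψ r) (h' : Rel f U a R ψ χ r') : Rel f U a R φ χ (r * r') := fun i => by
  rw [scal_mul, ← _root_.mul_assoc, h i, h' i]

include ha hU hc hb in
theorem exists_rel {R : Type u} [CommRing R] [Algebra A R] [Module.Flat A R] (φ ψ : B →ₐ[A] R) :
    ∃ r : R, Rel f U a R φ ψ r := by
  let w : ∀ i, Γ(pullback f (sp A R), pullback.fst f (sp A R) ⁻¹ᵁ U i) := fun i =>
    ((isUnit_pw ha φ i).unit⁻¹ : _) * pw f U a ψ i
  have hw : ∀ i, pw f U a φ i * w i = pw f U a ψ i := fun i => by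
    simp [w, ← _root_.mul_assoc]
  obtain ⟨z, hz, -⟩ := (pullback f (sp A R)).sheaf.existsUnique_gluing'
    (fun i => pullback.fst f (sp A R) ⁻¹ᵁ U i) ⊤ (fun i => homOfLE le_top)
    (fun x _ => Opens.mem_iSup.2 (hU _)) w (fun i j => by
      obtain ⟨c, hc⟩ := hc i j
      have key : resO _ (Scheme.Hom.preimage_mono _ inf_le_left) (w i) =
          resO _ (Scheme.Hom.preimage_mono _ inf_le_right) (w j) := by
        have hp : ∀ χ : B →ₐ[A] R, resO _ (Scheme.Hom.preimage_mono _ inf_le_right) (pw f U a χ j) *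
            ev (pullback.fst f (sp A R)) (U i ⊓ U j) _ le_rfl c =
            resO _ (Scheme.Hom.preimage_mono _ inf_le_left) (pw f U a χ i) := fun χ => by
          have e := congrArg (ev (gmap f χ) _ (pullback.fst f (sp A R) ⁻¹ᵁ (U i ⊓ U j))
            (le_of_eq (by rw [← Scheme.Hom.comp_preimage, gmap_fst]))) hc
          rw [map_mul, ev_resO, ev_resO, ev_comp] at e
          simp only [gmap_fst] at e
          simp only [pw, ev_res]
          exact e
        refine ((isUnit_pw ha φ i).map (resO _ (Scheme.Hom.preimage_mono _ inf_le_left))).mul_left_cancel ?_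
        rw [← map_mul, hw, ← hp φ, ← hp ψ, mul_right_comm, ← map_mul, hw]
      exact key)
  obtain ⟨r', hr'⟩ := (hb R).2 z
  obtain ⟨r, rfl⟩ := (ConcreteCategory.bijective_of_isIso (Scheme.ΓSpecIso (CommRingCat.of R)).inv).2 r'
  refine ⟨r, fun i => ?_⟩
  rw [← hw i, ← hz i, ← hr']
  rfl

variable {L}

include hb in
/-- **a module trivial on a faithfully flat base change is trivial over opens of the base** -/
theorem exists_gen_over [Module.FaithfullyFlat A B] (hL : PicF.IsInvertible L)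
    (e : Γ((Scheme.Modules.pullback (pullback.fst f (sp A B))).obj L, ⊤)) (he : IsGen e)
    (q : PrimeSpectrum A) :
    ∃ (D : (Spec A).Opens) (g : Γ(L, f ⁻¹ᵁ D)), q ∈ D ∧ IsGen g := by
  haveI : Surjective (sp A B) := ⟨PrimeSpectrum.comap_surjective_of_faithfullyFlat⟩
  haveI : Flat (sp A B) := HasRingHomProperty.Spec_iff.2 (RingHom.flat_algebraMap_iff.2 inferInstance)
  choose U t hxU ht using fun x : X => TMul.exists_isGen hL x
  let g := pullback.fst f (sp A B)
  have hη : ∀ x, IsGen (eta g L (U x) (t x)) := fun x => C1Cap.isGen_eta g (ht x)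
  choose a ha' using fun x => (hη x (g ⁻¹ᵁ U x) le_rfl).2 (res _ le_top e)
  simp only [res_self] at ha'
  have ha : ∀ x, IsUnit (a x) := fun x =>
    W7Hull.isUnit_coeff (hη x) (by rw [ha']; exact he.res _)
  have hex : ∀ x y, ∃ c : Γ(X, U x ⊓ U y),
      res L inf_le_right (t y) = c • res L inf_le_left (t x) := fun x y => by
    obtain ⟨c, hc⟩ := (ht x (U x ⊓ U y) inf_le_left).2 (res L inf_le_right (t y))
    exact ⟨c, hc.symm⟩
  choose c hct using hex
  have hac : ∀ x y, resO _ (Scheme.Hom.preimage_mono _ inf_le_right) (a y) * ev g _ _ le_rfl (c x y) =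
      resO _ (Scheme.Hom.preimage_mono _ inf_le_left) (a x) := fun x y => by
    refine (hη x _ (Scheme.Hom.preimage_mono g inf_le_left)).1 ?_
    change _ • res _ _ (eta g L (U x) (t x)) = _ • res _ _ (eta g L (U x) (t x))
    have e1 : res _ (Scheme.Hom.preimage_mono g (inf_le_right : U x ⊓ U y ≤ U y)) (eta g L (U y) (t y)) =
        ev g _ _ le_rfl (c x y) • res _ (Scheme.Hom.preimage_mono g (inf_le_left : U x ⊓ U y ≤ U x))
          (eta g L (U x) (t x)) := by
      rw [eta_res g L (inf_le_right : U x ⊓ U y ≤ U y), eta_res g L (inf_le_left : U x ⊓ U y ≤ U x), hct, eta_smul,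
        ProjMor.ev, Scheme.Hom.app_eq_appLE]
    rw [mul_smul, ← e1, ← res_smul, ← res_smul, ha', ha', res_res, res_res]
  have hcov : ∀ x : X, ∃ i, x ∈ U i := fun x => ⟨x, hxU x⟩
  have hc' := fun x y => (⟨c x y, hac x y⟩ : ∃ c : Γ(X, U x ⊓ U y), resO _ (Scheme.Hom.preimage_mono _ inf_le_right) (a y) *
      ev (pullback.fst f (sp A B)) _ _ le_rfl c = resO _ (Scheme.Hom.preimage_mono _ inf_le_left) (a x))
  choose W hW using fun (R : Type u) (_ : CommRing R) (_ : Algebra A R) (_ : Module.Flat A R) (φ ψ : B →ₐ[A] R) =>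
    exists_rel ha hcov hc' hb φ ψ
  have hWu : ∀ (R : Type u) [i1 : CommRing R] [i2 : Algebra A R] [i3 : Module.Flat A R] (φ ψ : B →ₐ[A] R) (r : R),
      Rel f U a R φ ψ r → W R i1 i2 i3 φ ψ = r := fun R _ _ _ φ ψ r h => Rel.unique ha hcov hb (hW R _ _ _ φ ψ) h
  obtain ⟨fA, hfA, m, n, hmn, hm⟩ := exists_coboundary (A := A) (B := B) (fun R i1 i2 i3 φ ψ => W R i1 i2 i3 φ ψ)
    (fun R R' _ _ _ _ _ _ θ φ ψ => (hWu R' _ _ _ ((hW R _ _ _ φ ψ).map θ)).symm)
    (fun R _ _ _ φ => hWu R _ _ _ (Rel.one ha hcov hb φ))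
    (fun R _ _ _ φ ψ χ => (hWu R _ _ _ ((hW R _ _ _ φ ψ).trans (hW R _ _ _ ψ χ))).symm) q
  let D : (Spec A).Opens := PrimeSpectrum.basicOpen fA
  let U' : X → X.Opens := fun x => U x ⊓ f ⁻¹ᵁ D
  let mQ : ∀ x, Γ(pullback f (sp A B), g ⁻¹ᵁ U' x) := fun x => scal f B _ m
  have hmQ : ∀ x, IsUnit (mQ x) := fun x => by
    have h1 : IsUnit (scal f B (g ⁻¹ᵁ U' x) (algebraMap A B fA)) := by
      have hle : g ⁻¹ᵁ U' x ≤ (pullback.snd f (sp A B) ≫ sp A B) ⁻¹ᵁ D := by
        rw [← pullback.condition, Scheme.Hom.comp_preimage]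
        exact g.preimage_mono inf_le_right
      have hu : IsUnit (resO (Spec A) (le_top : D ≤ ⊤) ((Scheme.ΓSpecIso A).inv fA)) := by
        have hu := (Spec A).toRingedSpace.isUnit_res_basicOpen ((Scheme.ΓSpecIso A).inv fA)
        have eD : (Spec A).basicOpen ((Scheme.ΓSpecIso A).inv fA) = D := basicOpen_eq_of_affine fA
        rw [← eD]
        exact hu
      have := hu.map (ev (pullback.snd f (sp A B) ≫ sp A B) D _ hle)
      rw [ev_resO] at this
      refine Eq.mp ?_ this
      congr 1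
      unfold scal
      rw [show (Scheme.ΓSpecIso (CommRingCat.of B)).inv (algebraMap A B fA) = (sp A B).appTop ((Scheme.ΓSpecIso A).inv fA) from
        congrArg (fun h : A ⟶ _ => h.hom fA) (Scheme.ΓSpecIso_inv_naturality (CommRingCat.ofHom (algebraMap A B)))]
      rw [← CommRingCat.comp_apply (sp A B).appTop, ← Scheme.Hom.comp_appTop]
      exact (ev_res (pullback.snd f (sp A B) ≫ sp A B) (D := ⊤) (V := ⊤) le_top le_top _).symm.trans
        (by simp only [ProjMor.ev, Scheme.Hom.appTop, Scheme.Hom.app_eq_appLE]; rfl)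
    rw [← hmn, scal_mul] at h1
    exact isUnit_of_mul_isUnit_left h1
  let α : ∀ x, Γ(pullback f (sp A B), g ⁻¹ᵁ U' x) := fun x =>
    resO _ (g.preimage_mono (inf_le_left : U' x ≤ U x)) (a x) *
      (((hmQ x).unit⁻¹ : Units _) : Γ(pullback f (sp A B), g ⁻¹ᵁ U' x))
  have hαu : ∀ x, IsUnit (α x) := fun x => ((ha x).map _).mul ((hmQ x).unit⁻¹).isUnit
  have hαm : ∀ x, α x * mQ x = resO _ (g.preimage_mono (inf_le_left : U' x ≤ U x)) (a x) := fun x => by simp [α, _root_.mul_assoc]
  have hdesc : ∀ (x : X) {T : Scheme.{u}} (p₁ p₂ : T ⟶ pullback f (sp A B)) (V : T.Opens)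
      (h1 : V ≤ p₁ ⁻¹ᵁ (g ⁻¹ᵁ U' x)) (h2 : V ≤ p₂ ⁻¹ᵁ (g ⁻¹ᵁ U' x)),
      p₁ ≫ g = p₂ ≫ g → ev p₁ _ V h1 (α x) = ev p₂ _ V h2 (α x) := by
    intro x T p₁ p₂ V h1 h2 hp
    let z₀ : T ⟶ pullback (sp A B) (sp A B) := pullback.lift (p₁ ≫ pullback.snd _ _) (p₂ ≫ pullback.snd _ _) (by
      rw [Category.assoc, Category.assoc, ← pullback.condition, reassoc_of% hp])
    let z₁ : T ⟶ Spec (CommRingCat.of (B ⊗[A] B)) := z₀ ≫ (pullbackSpecIso A B B).hom
    let l : (B : Type u) →ₐ[A] B ⊗[A] B := Algebra.TensorProduct.includeLeft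
    let r : (B : Type u) →ₐ[A] B ⊗[A] B := Algebra.TensorProduct.includeRight
    have hl : z₁ ≫ Spec.map (CommRingCat.ofHom l.toRingHom) = p₁ ≫ pullback.snd _ _ := by
      refine (Category.assoc _ _ _).trans ((congrArg (z₀ ≫ ·) (pullbackSpecIso_hom_fst A B B)).trans ?_)
      exact pullback.lift_fst _ _ _
    have hr : z₁ ≫ Spec.map (CommRingCat.ofHom r.toRingHom) = p₂ ≫ pullback.snd _ _ := by
      refine (Category.assoc _ _ _).trans ((congrArg (z₀ ≫ ·) (pullbackSpecIso_hom_snd A B B)).trans ?_)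
      exact pullback.lift_snd _ _ _
    have hsp : z₁ ≫ sp A (B ⊗[A] B) = (p₁ ≫ g) ≫ f := by
      rw [show sp A (B ⊗[A] B) = Spec.map (CommRingCat.ofHom l.toRingHom) ≫ sp A B by
        simp [sp, l, ← Spec.map_comp, ← CommRingCat.ofHom_comp], reassoc_of% hl, ← pullback.condition, Category.assoc]
    let z : T ⟶ pullback f (sp A (B ⊗[A] B)) := pullback.lift (p₁ ≫ g) z₁ hsp.symm
    have e1 : p₁ = z ≫ gmap f l := pullback.hom_ext (by simp [z, g]) (by simp [z]; exact hl.symm)
    have e2 : p₂ = z ≫ gmap f r := pullback.hom_ext (by simp [z, ← hp, g]) (by simp [z]; exact hr.symm)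
    let O := pullback.fst f (sp A (B ⊗[A] B)) ⁻¹ᵁ U' x
    have hO : ∀ φ : B →ₐ[A] B ⊗[A] B, O ≤ gmap f φ ⁻¹ᵁ (g ⁻¹ᵁ U' x) := fun φ =>
      le_of_eq (by rw [← Scheme.Hom.comp_preimage, gmap_fst])
    have hV : V ≤ z ⁻¹ᵁ O := by
      refine h1.trans (le_of_eq ?_)
      rw [← Scheme.Hom.comp_preimage, ← Scheme.Hom.comp_preimage, pullback.lift_fst]
    have huniv : ev (gmap f l) _ O (hO l) (α x) = ev (gmap f r) _ O (hO r) (α x) := by
      have hpt : ∀ φ : B →ₐ[A] B ⊗[A] B, ev (gmap f φ) _ O (hO φ) (α x) * scal f _ O (φ m) =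
          resO _ (Scheme.Hom.preimage_mono _ inf_le_left) (pw f U a φ x) := fun φ => by
        rw [← ev_scal f φ (hO φ) m, ← map_mul]
        refine (congrArg _ (hαm x)).trans ?_
        rw [ev_resO, pw, ev_res]
      have hWm := hm
      change W (B ⊗[A] B) _ _ _ l r * l m = r m at hWm
      refine ((hmQ x).map (ev (gmap f r) _ O (hO r))).mul_right_cancel ?_
      change _ * ev _ _ _ _ (scal f B _ m) = _ * ev _ _ _ _ (scal f B _ m)
      rw [ev_scal, hpt r]
      have eW := congrArg (resO _ (Scheme.Hom.preimage_mono _ (inf_le_left : U' x ≤ U x)))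
        (hW (B ⊗[A] B) inferInstance inferInstance inferInstance l r x)
      rw [map_mul, ← hpt l] at eW
      rw [← eW, _root_.mul_assoc]
      refine congrArg (_ * ·) ?_
      rw [← hWm, _root_.mul_comm (W _ _ _ _ l r), scal_mul]
      exact congrArg (_ * ·) (by simp [scal, resO_resO]; rfl)
    rw [ev_congr e1 h1 (hV.trans (z.preimage_mono (hO l))), ev_congr e2 h2 (hV.trans (z.preimage_mono (hO r)))]
    exact (ev_comp z (gmap f l) (hO l) hV _).symm.trans ((congrArg _ huniv).trans (ev_comp z (gmap f r) (hO r) hV _))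
  choose b hb' hbu using fun x => existsUnique_desc_open g (U' x) (α x) (hdesc x)
  simp only at hb' hbu
  have hbunit : ∀ x, IsUnit (b x) := fun x => by
    obtain ⟨b₂, hb₂, -⟩ := existsUnique_desc_open g (U' x) ((hαu x).unit⁻¹ : _) (fun {T} p₁ p₂ V h1 h2 hp => by
      refine ((hαu x).map (ev p₁ _ V h1)).mul_left_cancel ?_
      rw [← map_mul, IsUnit.mul_val_inv, map_one, hdesc x p₁ p₂ V h1 h2 hp, ← map_mul, IsUnit.mul_val_inv, map_one])
    obtain ⟨o, -, hou⟩ := existsUnique_desc_open g (U' x) 1 (fun p₁ p₂ V h1 h2 hp => by rw [map_one, map_one])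
    refine IsUnit.of_mul_eq_one b₂ ((hou _ ?_).trans (hou _ (map_one _)).symm)
    change ev g (U' x) _ le_rfl (b x * b₂) = 1
    rw [map_mul, hb', hb₂, IsUnit.mul_val_inv]
  let s : ∀ x, Γ(L, U' x) := fun x => b x • res L inf_le_left (t x)
  obtain ⟨(G : Γ(L, f ⁻¹ᵁ D)), hG, -⟩ := TopCat.Sheaf.existsUnique_gluing' (Groth.Agent.QC.abSheaf L) U' (f ⁻¹ᵁ D)
    (fun x => homOfLE inf_le_right) (fun x hx => Opens.mem_iSup.2 ⟨x, hxU x, hx⟩) s (fun x y => by
      have hxy : U' x ⊓ U' y ≤ U x ⊓ U y := inf_le_inf inf_le_left inf_le_left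
      have key : res L inf_le_left (s x) = res L inf_le_right (s y) := by
        have e1 := congrArg (res L hxy) (hct x y)
        simp only [res_smul, res_res] at e1
        simp only [s, res_smul]
        erw [res_res, res_res]
        rw [e1, smul_smul]
        congr 1
        obtain ⟨o, -, hou⟩ := existsUnique_desc_open g (U' x ⊓ U' y) (resO _ (g.preimage_mono inf_le_left) (α x))
          (fun {T} p₁ p₂ V h1 h2 hp => by
            rw [ev_resO, ev_resO]
            exact hdesc x p₁ p₂ V _ _ hp)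
        refine (hou _ ?_).trans (hou _ ?_).symm
        · simp only [ev_resO]
          rw [← ev_res g (le_refl _) (g.preimage_mono (inf_le_left : U' x ⊓ U' y ≤ U' x)), hb']
        · change ev g (U' x ⊓ U' y) _ le_rfl (_ * _) = resO _ _ (α x)
          rw [map_mul (ev g _ _ _), ev_resO, ev_resO]
          rw [← ev_res g (le_refl _) (g.preimage_mono (inf_le_right : U' x ⊓ U' y ≤ U' y)), hb',
            ← ev_res g (le_refl _) (g.preimage_mono hxy)]
          have e2 := congrArg (resO _ (g.preimage_mono hxy)) (hac x y)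
          simp only [map_mul, resO_resO] at e2
          refine ((hmQ x).map (resO _ (g.preimage_mono (inf_le_left : U' x ⊓ U' y ≤ U' x)))).mul_right_cancel ?_
          rw [← map_mul, hαm, resO_resO, ← e2, mul_right_comm]
          congr 1
          have e3 := congrArg (resO _ (g.preimage_mono (inf_le_right : U' x ⊓ U' y ≤ U' y))) (hαm y)
          rw [map_mul, resO_resO] at e3
          rw [← e3]
          simp [mQ, scal, resO_resO]
      exact key)
  refine ⟨D, G, hfA, UfdExtend.isGen_of_locally fun z hz => ⟨U' z, inf_le_right, ⟨hxU z, hz⟩, ?_⟩⟩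
  have : res L (inf_le_right : U' z ≤ f ⁻¹ᵁ D) G = s z := hG z
  rw [this]
  exact W7Hull.isGen_smul ((ht z).res _) (hbunit z)

end Core

end Groth.Agent.LBDesc
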